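import Cfsg.Agent.Lib.NDiv.Case2

/-! No divisibility among the nonlinear character degrees: the middle layer, second case; the induction. -/

set_option autoImplicit false

namespace CfsgLib.NDiv

open Cfsg CfsgLib.Char CfsgLib.CharDeep CfsgLib.ChDeg CfsgLib.RelDeg CfsgLib.Palfy Subgroup MulAction
open scoped commutatorElement Pointwise

universe u

section
variable {G H : Type*} [Group G] [Group H] {φ : G →* MulAut H} {I : Subgroup G}
  {K L M X Y C : Subgroup H} {p q r m : ℕ}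

theorem phi_comm {i : G} {n : H} (h : ∀ x, φ i x = n * x * n⁻¹) (g : G) (u : H) :
    φ ⁅g, i⁆ u = φ g n * n⁻¹ * u * (φ g n * n⁻¹)⁻¹ := by
  have : φ i⁻¹ u = n⁻¹ * u * n := (φ i).injective (by rw [phi_inv, h]; group)
  simp only [commutatorElement_def, map_mul, MulAut.mul_apply, this, h, map_inv (φ g), phi_inv]
  group

theorem phi_pow {i : G} {n : H} (h : ∀ x, φ i x = n * x * n⁻¹) (k : ℕ) (u : H) :
    φ (i ^ k) u = n ^ k * u * (n ^ k)⁻¹ := by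
  induction k with
  | zero => simp
  | succ k ih => rw [pow_succ', map_mul, MulAut.mul_apply, ih, h, pow_succ']; group

/-- the commutator map -/
def fr (cc : ∀ a ∈ C, ∀ b ∈ C, ⁅a, b⁆ ∈ X) (hz : X ≤ centralizer (C : Set H)) {u : H} (hu : u ∈ C) : C →* H :=
  MonoidHom.mk' (fun c => ⁅u, (c : H)⁆) fun a b => by
    have := mem_centralizer_iff.1 (hz (cc u hu b b.2)) a a.2
    calc _ = ⁅u, (a : H)⁆ * (a * ⁅u, (b : H)⁆ * (a : H)⁻¹) := by simp only [commutatorElement_def, coe_mul]; group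
      _ = _ := by rw [this, mul_inv_cancel_right]

variable [Finite H]

theorem Mid.surj [X.Normal] (d : Mid φ K M X C q m) {Z : Subgroup H} (hZ : Z ≤ M) {y v : H} (hy : y ∉ C)
    (hn : ∀ z ∈ Z, y * z * y⁻¹ ∈ Z) (hv : v ∈ Z) : ∃ z ∈ Z, ∃ x ∈ X, v = ⁅y, z⁆ * x := by
  obtain ⟨_, ⟨z, hz, rfl⟩, e⟩ := NDiv.surj (Y := Z.map (QuotientGroup.mk' X)) (b := (y : H ⧸ X)) (by
    rintro _ ⟨z, hz, rfl⟩
    exact ⟨_, hn z hz, rfl⟩) (by
    rintro _ ⟨z, hz, rfl⟩ c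
    exact (QuotientGroup.eq_one_iff z).2 (d.fp y hy z (hZ hz) ((commutator_mem_iff_commute X y z).2 c))) ⟨v, hv, rfl⟩
  exact ⟨z, hz, _, QuotientGroup.eq.1 (show ((⁅y, z⁆ : H) : H ⧸ X) = v from e.symm), by group⟩

namespace Hyp

variable (h : Hyp φ I K p q) (hX : Mn φ X r) [X.Normal] (d : Mid φ K M X C q m) (hz : X ≤ centralizer (C : Set H))
  (n : ⁅C, C⁆ ≠ ⊥)
include h hX d hz n

theorem noind [C.Normal] {θ : C → ℂ} (hθ : IsIrrCharacter C θ) (h1 : ¬ X.subgroupOf C ≤ cker θ) :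
    ∃ t ∈ inertia C θ, t ∉ C ∧ t ∈ centralizer (X : Set H) := by
  have := Fintype.ofFinite H
  have XC : X ≤ C := d.XM.trans (d.MD.trans d.DC)
  obtain ⟨t, t1, t2⟩ : ∃ t ∈ inertia C θ, t ∉ C := by
    by_contra! c
    obtain ⟨χ, hχ, a⟩ := d.deg
    have e := deg_ind C (isCharacter_of_isIrr hθ)
    have := h.nd χ _ hχ (isIrr_indFun_of_inertia_le C hθ c) (a ▸ d.m1) (by rw [e, a, d.idx]; exact dvd_mul_right _ _)
    rw [e, a, ← d.idx, eq_comm, Nat.mul_eq_left index_ne_zero_of_finite, deg_eq_one_iff_commutator_le hθ] at this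
    refine h1 fun x hx => this ?_
    have e := (hX.min _ (d.iC.comm d.iC) (commutator_le.2 d.cc)).resolve_left n
    exact mem_comm.2 (e.ge hx)
  refine ⟨t, t1, t2, by_contra fun c => h1 fun v hv => ?_⟩
  obtain ⟨u, hu, e⟩ := NDiv.surj (fun y hy => Normal.conj_mem ‹X.Normal› y hy t)
    (h.stab hX (d.XM.trans d.MD) (d.DC.trans (le_centralizer_iff.1 hz)) c) hv
  have := cen hθ (z := ⟨u, XC hu⟩) (fun c => by
    rw [commutatorElement_eq_one_iff_mul_comm.2 (Subtype.ext (mem_centralizer_iff.1 (hz hu) c c.2))]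
    exact one_mem _) ((mem_inertia' C).1 t1 ⟨u, XC hu⟩)
  convert this using 1
  exact Subtype.ext e

theorem onto {u : H} (hu : u ∈ M) (hu' : u ∉ X) {a : H} (ha : a ∈ X) : ∃ v ∈ M, ⁅u, v⁆ = a := by
  have := h.normal d.iC
  have := h.normal d.iM
  have MC : M ≤ C := d.MD.trans d.DC
  have XC : X ≤ C := d.XM.trans MC
  obtain ⟨x₀, h0, x1⟩ := X.bot_or_exists_ne_one.resolve_left hX.ne
  obtain ⟨b, -, b1, b2⟩ : ∃ t ∈ (⊤ : Subgroup H), t ∉ C ∧ t ∈ centralizer (X : Set H) := by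
    obtain ⟨θ, hθ, -, k⟩ := exists_irr_le_cker_not_mem (G := C) ⊥ (g := ⟨x₀, XC h0⟩)
      fun c => x1 (congrArg Subtype.val (mem_bot.1 c))
    obtain ⟨t, -, k⟩ := h.noind hX d hz n hθ fun c => k (c h0)
    exact ⟨t, mem_top _, k⟩
  have cj : ∀ y : H, ∀ c ∈ C, y * c * y⁻¹ ∈ C := fun y c hc => Normal.conj_mem ‹_› c hc y
  have iv : ∀ y ∈ centralizer (X : Set H), ∀ a ∈ C, ∀ c ∈ C, ⁅y * a * y⁻¹, y * c * y⁻¹⁆ = ⁅a, c⁆ := fun y hy a ha c hc => by
    rw [← conjugate_commutatorElement, ← mem_centralizer_iff.1 hy _ (d.cc a ha c hc), mul_inv_cancel_right]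
  have x0 : ∀ c ∈ C, ∀ x ∈ X, ⁅c, x⁆ = 1 := fun c hc x hx =>
    commutatorElement_eq_one_iff_mul_comm.2 (mem_centralizer_iff.1 (hz hx) c hc)
  have ml : ∀ c ∈ C, ∀ a ∈ C, ∀ e ∈ C, ⁅c, a * e⁆ = ⁅c, a⁆ * ⁅c, e⁆ := fun c hc a ha e he =>
    map_mul (fr d.cc hz hc) ⟨a, ha⟩ ⟨e, he⟩
  have il : ∀ c ∈ C, ∀ a ∈ C, ⁅c, a⁻¹⁆ = ⁅c, a⁆⁻¹ := fun c hc a ha => map_inv (fr d.cc hz hc) ⟨a, ha⟩
  have red : ∀ c : C, ∃ v ∈ M, fr d.cc hz (MC hu) c = ⁅u, v⁆ := fun c => by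
    obtain ⟨j, k, k1, k2⟩ := part hX.pr (c : H)
    suffices c ∈ ((M.subgroupOf C).map (fr d.cc hz (MC hu))).comap (fr d.cc hz (MC hu)) by
      obtain ⟨v, hv, e⟩ := this
      exact ⟨v, hv, e.symm⟩
    refine mem_of_cop k1 ?_ ⟨1, one_mem _, by rw [map_one, map_pow, eq_comm]; exact hX.ex _ (d.cc _ (MC hu) _ c.2)⟩
    have he : (c : H) ^ k ∈ C := pow_mem c.2 k
    have rq : r.Coprime q := by
      rw [← orderOf_eq_prime (hp := ⟨hX.pr⟩) (hX.ex x₀ h0) x1]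
      exact d.qM _ (d.XM h0)
    have := inv_mem (d.nq ((c : H) ^ k) ((rq.pow_left j).coprime_dvd_left
      (orderOf_dvd_of_pow_eq_one (by rw [← pow_mul, mul_comm, k2]))) b)
    rw [commutatorElement_inv] at this
    obtain ⟨v, hv, x, hx, e⟩ := d.surj le_rfl b1 (fun z hz => Normal.conj_mem ‹_› z hz b) this
    obtain ⟨w, hw, y, hy, e'⟩ := d.surj le_rfl b1 (fun z hz => Normal.conj_mem ‹_› z hz b) hu
    have hc : v⁻¹ * (c : H) ^ k ∈ C := mul_mem (inv_mem (MC hv)) he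
    have e1 : b * (v⁻¹ * (c : H) ^ k) * b⁻¹ = v⁻¹ * x * (c : H) ^ k := by
      calc _ = (b * v * b⁻¹)⁻¹ * ⁅b, (c : H) ^ k⁆ * (c : H) ^ k := by simp only [commutatorElement_def]; group
        _ = _ := by rw [e]; simp only [commutatorElement_def]; group
    have e2 := iv b b2 _ hc w (MC hw)
    rw [e1, mem_centralizer_iff.1 (hz hx) _ (inv_mem (MC hv)), mul_assoc, ← commutatorElement_inv,
      ml _ (cj b w (MC hw)) _ (XC hx) _ hc, x0 _ (cj b w (MC hw)) _ hx, one_mul, commutatorElement_inv] at e2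
    have e3 : ⁅v⁻¹ * (c : H) ^ k, u⁆ = 1 := by
      rw [e', ml _ hc _ (d.DC (commutator_mem_commutator (mem_top _) (mem_top _))) _ (XC hy), x0 _ hc _ hy, mul_one,
        commutatorElement_def b, ml _ hc _ (cj b w (MC hw)) _ (inv_mem (MC hw)), il _ hc _ (MC hw), e2, mul_inv_cancel]
    rw [← inv_eq_one, commutatorElement_inv, ml _ (MC hu) _ (inv_mem (MC hv)) _ he, il _ (MC hu) _ (MC hv),
      inv_mul_eq_one] at e3
    exact ⟨⟨v, MC hv⟩, hv, e3⟩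
  by_contra! na
  set X₀ := (fr d.cc hz (MC hu)).range
  have X0 : X₀ ≤ X := by
    rintro _ ⟨c, rfl⟩
    exact d.cc _ (MC hu) _ c.2
  have a0 : a ∉ X₀ := fun ⟨c, e⟩ => by
    obtain ⟨v, hv, e'⟩ := red c
    exact na v hv (e'.symm.trans e)
  let Z : Subgroup H :=
    { carrier := {z | z ∈ M ∧ ∀ c ∈ C, ⁅c, z⁆ ∈ X₀}
      one_mem' := ⟨one_mem _, fun c _ => by simp⟩
      mul_mem' := fun {a b} ha hb => ⟨mul_mem ha.1 hb.1, fun c hc =>
        ml c hc a (MC ha.1) b (MC hb.1) ▸ mul_mem (ha.2 c hc) (hb.2 c hc)⟩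
      inv_mem' := fun {a} ha => ⟨inv_mem ha.1, fun c hc => il c hc a (MC ha.1) ▸ inv_mem (ha.2 c hc)⟩ }
  have uZ : u ∈ Z := ⟨hu, fun c hc => commutatorElement_inv u c ▸ inv_mem ⟨⟨c, hc⟩, rfl⟩⟩
  have nZ : ∀ y ∈ centralizer (X : Set H), ∀ z ∈ Z, y * z * y⁻¹ ∈ Z := fun y hy z hz =>
    ⟨Normal.conj_mem ‹_› z hz.1 y, fun c hc => by
      have := iv y hy _ (cj y⁻¹ c hc) z (MC hz.1)
      rw [show y * (y⁻¹ * c * y⁻¹⁻¹) * y⁻¹ = c by group] at this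
      exact this ▸ hz.2 _ (cj y⁻¹ c hc)⟩
  have cZ : ∀ y ∈ centralizer (X : Set H), ∀ z ∈ Z, ⁅y, z⁆ ∈ Z := fun y hy z hz => mul_mem (nZ y hy z hz) (inv_mem hz)
  have : (X₀.subgroupOf C).Normal := ⟨fun x hx c => by
    rwa [show c * x * c⁻¹ = x from Subtype.ext
      (mul_inv_eq_iff_eq_mul.2 (mem_centralizer_iff.1 (hz (X0 hx)) c c.2))]⟩
  obtain ⟨θ, hθ, k1, k2, k3⟩ := ex2 (X := X₀.subgroupOf C) (a := ⟨a, XC ha⟩) (b := ⟨⁅b, u⁆, MC (cZ b b2 u uZ).1⟩) a0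
    (fun c => hu' (d.fp b b1 u hu (X0 c))) (fun c => by
      rw [show ⁅c, (⟨a, XC ha⟩ : C)⁆ = 1 from Subtype.ext (x0 c c.2 a ha)]
      exact one_mem _) fun c => (cZ b b2 u uZ).2 c c.2
  obtain ⟨t, t1, t2, t3⟩ := h.noind hX d hz n hθ fun c => k2 (c ha)
  obtain ⟨z, hz', x, hx, e⟩ := d.surj (Z := Z) (fun _ hz => hz.1) t2 (nZ t t3) uZ
  have z1 := cZ b b2 z hz'
  have k4 := cen hθ (z := ⟨_, MC z1.1⟩) (fun c => k1 (z1.2 c c.2)) ((mem_inertia' C).1 t1 ⟨_, MC z1.1⟩)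
  have A := nZ t t3 _ (nZ b b2 z hz')
  have m1 := A.2 _ (d.DC (commutator_mem_commutator (mem_top b) (mem_top t)))
  have m2 := mul_mem ((mul_mem hz' (inv_mem (nZ t t3 z hz'))).2 _ (inv_mem (MC (nZ b b2 z hz').1)))
    ((inv_mem (nZ t t3 z hz')).2 _ (MC hz'.1))
  have m3 := mem_centralizer_iff.1 (hz (X0 m2)) _ (MC A.1)
  rw [← mul_inv_eq_iff_eq_mul] at m3
  have m4 := mul_mem m1 (m3 ▸ m2)
  refine k3 ?_
  convert mul_mem (k1 (show (⟨_, XC (X0 m4)⟩ : C) ∈ _ from m4)) k4 using 1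
  refine Subtype.ext ?_
  have : ⁅b, u⁆ = ⁅b, ⁅t, z⁆⁆ := by
    rw [e, commutatorElement_def, commutatorElement_def b, ← mul_assoc b, mul_assoc _ x,
      ← (Commute.inv_left (mem_centralizer_iff.1 b2 x hx).symm).eq]
    group
  simp only [this, coe_mul, coe_inv, commutatorElement_def]
  group

theorem caseB [Finite G] : False := by
  have := h.normal d.iC
  have := h.normal d.iM
  have := Fact.mk h.pp
  have := Normal.of_commutator_le G h.comm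
  have MC : M ≤ C := d.MD.trans d.DC
  obtain ⟨x₀, h0, x1⟩ := X.bot_or_exists_ne_one.resolve_left hX.ne
  obtain ⟨u, hu, hu'⟩ := d.ex
  have pw : ∀ u ∈ M, u ^ r ∈ X := fun u hu => by_contra fun c => by
    obtain ⟨v, hv, e⟩ := h.onto hX d hz n (pow_mem hu r) c h0
    refine x1 (inv_eq_one.1 ?_)
    rw [← e, commutatorElement_inv]
    exact (map_pow (fr d.cc hz (MC hv)) ⟨u, MC hu⟩ r).trans (hX.ex _ (d.cc _ (MC hv) _ (MC hu)))
  have rm : r.Coprime m := hX.pr.coprime_iff_not_dvd.2 fun c => hu' (d.cop r c u hu (pw u hu))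
  have lt : Nat.card X < Nat.card (M.map (QuotientGroup.mk' X)) := by
    let f : M →* H := (fr d.cc hz (MC hu)).comp (inclusion MC)
    have e1 : f.range = X := le_antisymm (by
      rintro _ ⟨v, rfl⟩
      exact d.cc _ (MC hu) _ (MC v.2)) fun a ha => by
      obtain ⟨v, hv, e⟩ := h.onto hX d hz n hu hu' ha
      exact ⟨⟨v, hv⟩, e⟩
    have e2 := f.ker.index_mul_card
    have e3 := (X.subgroupOf M).index_mul_card
    have e4 := Nat.card_congr (subgroupOfEquivOfLe d.XM).toEquiv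
    rw [index_ker, e1, ← e3, e4, mul_comm, Nat.mul_left_inj Nat.card_pos.ne'] at e2
    rw [← relIndex_ker, QuotientGroup.ker_mk', relIndex, ← e2, ← e4]
    refine Set.Finite.card_lt_card (Set.toFinite _) (SetLike.coe_ssubset_coe.2 (lt_of_le_not_ge (fun x hx => ?_)
      fun c => hu' (c (show (⟨u, hu⟩ : M) ∈ f.ker from commutatorElement_self u))))
    exact commutatorElement_eq_one_iff_mul_comm.2 (mem_centralizer_iff.1 (hz hx) u (MC hu))
  have iC : ∀ g, ∀ c ∈ C, φ g c * c⁻¹ ∈ C := fun g c hc => mul_mem (d.iC g c hc) (inv_mem hc)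
  have i0 : ∀ g, ∀ b ∈ centralizer (X : Set H), φ g b * b⁻¹ ∈ C := fun g b hb => by
    have key : ∀ y, y ∈ ((QuotientGroup.mk' C).comp (φ g).toMonoidHom).eqLocus (QuotientGroup.mk' C) ↔
        φ g y * y⁻¹ ∈ C := fun y => (QuotientGroup.eq_iff_div_mem (N := C)).trans (by rw [div_eq_mul_inv]; rfl)
    obtain ⟨j, k, k1, k2⟩ := part hX.pr b
    refine (key b).1 (mem_of_cop (rm.pow_left j) ((key _).2 (d.DC (by_contra fun c => x1 ?_)))
      ((key _).2 (iC g _ (d.idx ▸ C.pow_index_mem b))))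
    exact eq_one_of_cop k1 (pow_eq_one_of_conj (h.cam c (d.MD (d.XM h0)))
      (mem_centralizer_iff.1 (pow_mem hb _) x₀ h0) (by rw [← pow_mul, k2])) (hX.ex x₀ h0)
  let E : Subgroup G :=
    { carrier := {g | g ∈ I ∧ ∀ u ∈ M, qt hX.inv g (u : H ⧸ X) = u}
      one_mem' := ⟨one_mem _, fun u _ => by rw [map_one]; rfl⟩
      mul_mem' := fun {a b} ha hb => ⟨mul_mem ha.1 hb.1, fun u hu => by
        rw [map_mul, MulAut.mul_apply, hb.2 u hu, ha.2 u hu]⟩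
      inv_mem' := fun {a} ha => ⟨inv_mem ha.1, fun u hu => (qt hX.inv a).injective (by rw [phi_inv, ha.2 u hu])⟩ }
  have : E.Normal := ⟨fun e he g => ⟨Normal.conj_mem ‹_› e he.1 g, fun u hu => by
    rw [map_mul, map_mul, MulAut.mul_apply, MulAut.mul_apply, qt_mk, he.2 _ (d.iM _ u hu), ← qt_mk hX.inv, phi_inv]⟩⟩
  have cx : ∀ n u : H, ((n * u * n⁻¹ : H) : H ⧸ X) = u ↔ ⁅n, u⁆ ∈ X := fun n u =>
    (QuotientGroup.eq_iff_div_mem (N := X)).trans (by rw [div_eq_mul_inv]; rfl)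
  have mE : ∀ i ∈ I, ∀ n, (∀ x, φ i x = n * x * n⁻¹) → (i ∈ E ↔ n ∈ C) := fun i hi n e => by
    rw [d.mem]
    exact ⟨fun c u hu => (cx n u).1 (by rw [← e, ← qt_mk hX.inv, c.2 u hu]),
      fun c => ⟨hi, fun u hu => by rw [qt_mk, e, (cx n u).2 (c u hu)]⟩⟩
  have cI : ∀ g i : G, ⁅g, i⁆ ∈ I := fun g i => h.comm (commutator_mem_commutator (mem_top _) (mem_top _))
  have hm : ∀ i ∈ I, i ^ m ∈ E := fun i hi => by
    obtain ⟨n, e⟩ := h.inn i hi
    exact (mE _ (pow_mem hi m) _ (phi_pow e m)).2 (d.idx ▸ C.pow_index_mem n)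
  have pm : m.Coprime p := by
    obtain ⟨χ, hχ, a⟩ := d.deg
    exact (h.pp.coprime_iff_not_dvd.2 (a ▸ (h.qd χ hχ (a ▸ d.m1)).2)).symm
  have fu : ∀ g, ∀ y ∈ M, ∃ i ∈ I, φ g y = φ i y := fun g y hy => by
    obtain ⟨n, e⟩ := h.fus' g (d.MD hy)
    obtain ⟨i, hi, e'⟩ := h.inn' n
    exact ⟨i, hi, e.trans (e' y).symm⟩
  obtain ⟨a, c, a1, a2⟩ := cnt (φ := qt hX.inv) (Y := M.map (QuotientGroup.mk' X)) (E := E) hX.pr h.comm hm pm (by
      rintro g _ ⟨y, hy, rfl⟩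
      exact ⟨_, d.iM g y hy, rfl⟩) (by
      rintro ⟨_, y, hy, rfl⟩
      exact ⟨1, Subtype.ext ((QuotientGroup.eq_one_iff _).2 (by simpa using pw y hy))⟩) (by
      rintro g hg _ ⟨y, hy, rfl⟩
      exact hg.2 y hy) (by
      rintro g _ ⟨y, hy, rfl⟩
      obtain ⟨i, hi, e⟩ := fu g y hy
      exact ⟨i, hi, congrArg (QuotientGroup.mk' X) e⟩) (fun _ hg => hg.1) (by
      rintro _ ⟨y, hy, rfl⟩ y1 i hi e g
      obtain ⟨n, e'⟩ := h.inn i hi
      refine (mE _ (cI g i) _ (phi_comm e' g)).2 (iC g n (by_contra fun c => y1 ((QuotientGroup.eq_one_iff y).2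
        (d.fp n c y hy ((cx n y).1 (e' y ▸ e)))))))
  obtain ⟨b, c', b1, b2⟩ := cnt (E := E) hX.pr h.comm hm pm hX.inv hX.pg (fun g hg y hy => by
      obtain ⟨n, e⟩ := h.inn g hg.1
      rw [e, mem_centralizer_iff.1 (hz hy) n ((mE g hg.1 n e).1 hg), mul_inv_cancel_right])
    (fun g y hy => fu g y (d.XM hy)) (fun _ hg => hg.1) (fun y hy y1 i hi e g => by
      obtain ⟨n, e'⟩ := h.inn i hi
      refine (mE _ (cI g i) _ (phi_comm e' g)).2 (i0 g n (by_contra fun c => y1 (h.stab hX (d.XM.trans d.MD)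
        (d.DC.trans (le_centralizer_iff.1 hz)) c y hy (mul_inv_eq_iff_eq_mul.1 (e' y ▸ e))))))
  refine (pow_le_pow_of_count hX.pr (fun e => ?_) (Nat.pos_of_ne_zero fun e => hX.ne (card_eq_one.1 ?_)) a2 b2).not_gt
    (a1 ▸ b1 ▸ lt)
  · obtain ⟨_, ⟨P⟩⟩ := Nat.card_eq_one_iff_unique.1 e
    have := P.normal_of_subsingleton
    obtain ⟨g, g1, g2⟩ : ∃ g : G, (g : G ⧸ E) ∈ (P : Subgroup (G ⧸ E)) ∧ g ∉ I := by
      by_contra! c
      refine P.not_dvd_index (h.dvd.trans ?_)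
      rw [← index_comap_of_surjective _ (QuotientGroup.mk'_surjective E)]
      exact index_dvd_of_le c
    obtain ⟨x, hx⟩ := h.ex_x
    obtain ⟨i, hi, e'⟩ := h.inn' x
    obtain ⟨k, hk⟩ := P.isPGroup' ⟨_, (comm_mem g1 (i : G ⧸ E)).1⟩
    exact h.frob g g2 x hx (d.CK ((mE _ (cI g i) _ (phi_comm e' g)).1 ((QuotientGroup.eq_one_iff _).1
      (eq_one_of_cop (pm.pow_right k) ((QuotientGroup.eq_one_iff _).2 (hm _ (cI g i))) (congrArg Subtype.val hk)))))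
  · rw [b1, e, pow_zero]

end Hyp

end

theorem main {G : Type*} [Group G] [Finite G] {I : Subgroup G} {p q : ℕ} (n : ℕ) : ∀ (H : Type u) [Group H] [Finite H]
    [Group.IsSolvable H] (φ : G →* MulAut H) (K : Subgroup H), Nat.card H = n → Hyp φ I K p q → Concl H := by
  induction n using Nat.strong_induction_on with | _ n ih => ?_
  intro H _ _ _ φ K hn h
  obtain ⟨L, hL, k, hk⟩ := h.exists_L
  by_cases e : L ⊓ _root_.commutator H = ⊥
  · exact h.caseBot hL hk e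
  obtain ⟨X, r, le, hX⟩ := exists_mn (φ := φ) ((inv_L hL).inf inv_comm) e
  have := h.normal hX.inv
  have c := ih _ (hn ▸ Core.card_quotient_lt_of_ne_bot hX.ne) (H ⧸ X) _ _ rfl (h.quot hX.inv (le.trans inf_le_right))
  rcases le.eq_or_lt with e | e
  · exact h.caseEq hL hk hX e.symm c
  obtain ⟨C, m, d⟩ := h.exists_mid hL hX.inv e c
  by_cases n : ⁅C, C⁆ = ⊥
  · exact h.caseAb d n
  by_cases hz : X ≤ centralizer (C : Set H)
  · exact (h.caseB hX d hz n).elim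
  · exact (h.caseA hX d hz).elim

end CfsgLib.NDiv
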