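import Mathlib
import Cfsg.Agent.Lib.Palfy.Ext
import Cfsg.Agent.Lib.ChDeg.ThreeDeg
import Cfsg.Agent.Lib.ChDeg.Broline

/-! No divisibility among the nonlinear character degrees: general lemmas. -/

set_option autoImplicit false

namespace CfsgLib.NDiv

open Cfsg CfsgLib.Char CfsgLib.CharDeep CfsgLib.ChDeg CfsgLib.RelDeg CfsgLib.Palfy Subgroup MulAction
open scoped commutatorElement Pointwise

variable {H : Type*} [Group H] [Finite H]

/-- no divisibility among the nonlinear degrees -/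
def ND (H : Type*) [Group H] : Prop :=
  ∀ ψ ψ', IsIrrCharacter H ψ → IsIrrCharacter H ψ' → charDegree ψ ≠ 1 →
    charDegree ψ ∣ charDegree ψ' → charDegree ψ = charDegree ψ'

theorem surj {Y : Subgroup H} {b : H} (hb : ∀ y ∈ Y, b * y * b⁻¹ ∈ Y)
    (hf : ∀ y ∈ Y, b * y = y * b → y = 1) {y : H} (hy : y ∈ Y) : ∃ u ∈ Y, y = ⁅b, u⁆ := by
  let f : Y → Y := fun u => ⟨⁅b, (u : H)⁆, mul_mem (hb _ u.2) (inv_mem u.2)⟩
  have : Function.Injective f := fun u v e => by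
    have e1 : ⁅b, (u : H)⁆ = ⁅b, (v : H)⁆ := congrArg Subtype.val e
    refine Subtype.ext (inv_mul_eq_one.1 (hf _ (mul_mem (inv_mem v.2) u.2) ?_)).symm
    calc b * ((v : H)⁻¹ * u) = (v : H)⁻¹ * ⁅b, (v : H)⁆⁻¹ * ⁅b, (u : H)⁆ * u * b := by
          simp only [commutatorElement_def]; group
      _ = _ := by rw [e1]; group
  obtain ⟨u, hu⟩ := Finite.injective_iff_surjective.1 this ⟨y, hy⟩
  exact ⟨u, u.2, (congrArg Subtype.val hu).symm⟩

omit [Finite H] in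
theorem mem_stab_iff {X : Subgroup H} [hX : X.Normal] {l : Lin X} {t : H} :
    t ∈ stabilizer H l ↔ ∀ (v : H) (hv : v ∈ X),
      l.hom ⟨⁅t, v⁆, mul_mem (hX.conj_mem v hv t) (inv_mem hv)⟩ = 1 := by
  have e : ∀ v : X, (t⁻¹ • l).hom v * (l.hom v)⁻¹ =
      l.hom ⟨⁅t, (v : H)⁆, mul_mem (hX.conj_mem v v.2 t) (inv_mem v.2)⟩ := fun v => by
    rw [smul_hom_apply, inv_inv, ← map_inv, ← map_mul]
    rfl
  rw [← inv_mem_iff, mem_stabilizer_iff]
  refine ⟨fun h v hv => by rw [← e ⟨v, hv⟩, h, mul_inv_cancel], fun h => MonoidHom.ext fun v => ?_⟩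
  exact mul_inv_eq_one.1 ((e v).trans (h v v.2))

theorem lin_eq_one {X : Subgroup H} [hX : X.Normal] {l : Lin X} {t : H} (ht : t ∈ stabilizer H l)
    (hf : ∀ y ∈ X, t * y = y * t → y = 1) : l = 1 := MonoidHom.ext fun v => by
  obtain ⟨u, hu, e⟩ := surj (fun y hy => hX.conj_mem y hy t) hf v.2
  exact (congrArg l.hom (Subtype.ext e)).trans (mem_stab_iff.1 ht u hu)

theorem exists_lin_of_ne {X Y : Subgroup H} (hab : ∀ a ∈ X, ∀ b ∈ X, a * b = b * a) {v : H}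
    (hv : v ∈ X) (hY : v ∉ Y) : ∃ l : Lin X, l.hom ⟨v, hv⟩ ≠ 1 ∧ ∀ y : X, (y : H) ∈ Y → l.hom y = 1 := by
  have : (Y.subgroupOf X).Normal := ⟨fun a ha g => by
    rwa [show g * a * g⁻¹ = a from Subtype.ext (mul_inv_eq_iff_eq_mul.2 (hab _ g.2 _ a.2))]⟩
  obtain ⟨χ, hχ, h2, h3⟩ := exists_irr_le_cker_not_mem (Y.subgroupOf X) (g := ⟨v, hv⟩) hY
  have hc := isCharacter_of_isIrr hχ
  obtain ⟨l, rfl⟩ := exists_co hc ((deg_eq_one_iff_commutator_le hχ).2
    (commutator_le.2 fun a _ b _ => by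
      rw [commutatorElement_eq_one_iff_mul_comm.2 (Subtype.ext (hab _ a.2 _ b.2))]
      exact one_mem _))
  refine ⟨l, fun e => h3 ((mem_cker hc).2 (by simp [co, e])), fun y hy => ?_⟩
  simpa [co] using (mem_cker hc).1 (h2 (show y ∈ Y.subgroupOf X from hy))

theorem exists_lin_fix {X : Subgroup H} [hX : X.Normal] (hab : ∀ a ∈ X, ∀ b ∈ X, a * b = b * a)
    {u v : H} (hv : v ∈ X) (v1 : v ≠ 1) (h : u * v = v * u) :
    ∃ l : Lin X, l ≠ 1 ∧ u ∈ stabilizer H l := by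
  obtain ⟨w, hw, hw'⟩ : ∃ w ∈ X, w ∉ (commHom X hab u).range := by
    by_contra! h0
    let f : X → X := fun a => ⟨⁅u, (a : H)⁆, mul_mem (hX.conj_mem _ a.2 u) (inv_mem a.2)⟩
    have : Function.Surjective f := fun a => by
      obtain ⟨b, hb⟩ := h0 a a.2
      exact ⟨b, Subtype.ext hb⟩
    refine v1 (congrArg Subtype.val (Finite.injective_iff_surjective.2 this
      (a₁ := ⟨v, hv⟩) (a₂ := 1) (Subtype.ext ?_)))
    simpa [f] using commutatorElement_eq_one_iff_mul_comm.2 h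
  obtain ⟨l, h1, h2⟩ := exists_lin_of_ne hab hw hw'
  exact ⟨l, fun e => h1 (by rw [e]; rfl), mem_stab_iff.2 fun a ha => h2 _ ⟨⟨a, ha⟩, rfl⟩⟩

/-- linear characters of a complemented abelian normal subgroup -/
theorem split (nd : ND H) {X J : Subgroup H} [X.Normal] (hc : IsComplement' X J) (l : Lin X)
    (hl : stabilizer H l ≠ ⊤) : (∃ χ, IsIrrCharacter H χ ∧ charDegree χ = (stabilizer H l).index) ∧
      ⁅stabilizer H l, stabilizer H l⁆ ≤ X := by
  have := Fintype.ofFinite H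
  have := Fintype.ofFinite X
  have := Fintype.ofFinite (stabilizer H l)
  obtain ⟨π, h1, h2, h3⟩ := exists_proj hc
  have hNI : X ≤ stabilizer H l :=
    inertia_co l ▸ le_inertia X (isClassFunction_of_isIrr (isIrr_co l))
  obtain ⟨μ, hμ⟩ : ∃ μ : stabilizer H l →* ℂˣ, ∀ x, μ x = l.hom ⟨_, h3 x⟩ := by
    refine ⟨MonoidHom.mk' (fun x => l.hom ⟨_, h3 x⟩) fun x y => ?_, fun _ => rfl⟩
    have h4 : (π x : H)⁻¹ • l = l := ((stabilizer H l).mul_mem_cancel_left x.2).1 (hNI (h3 x))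
    have h5 := smul_hom_apply (π x : H)⁻¹ l ⟨_, h3 y⟩
    rw [h4] at h5
    rw [h5, ← map_mul]
    congr 1
    ext
    simp [mul_assoc]
  have key : ∀ β, IsIrrCharacter (stabilizer H l) β → X.subgroupOf _ ≤ cker β →
      ∃ χ, IsIrrCharacter H χ ∧ charDegree χ = (stabilizer H l).index * charDegree β := by
    intro β hβ hk
    have h5 := isIrr_linear_mul μ hβ
    refine ⟨_, isIrr_indFun_inertia X _ hNI (isIrr_co l) (inertia_co l).symm h5 ?_, ?_⟩
    · rw [show (fun n : X => (μ ⟨n, hNI n.2⟩ : ℂ) * β ⟨n, hNI n.2⟩) = β 1 • co l from funext fun n => by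
        rw [(mem_cker (isCharacter_of_isIrr hβ)).1 (hk (show _ ∈ X.subgroupOf _ from n.2)), hμ,
          mul_comm]
        exact congrArg (fun x => β 1 * (l.hom x : ℂ)) (Subtype.ext (by simp [h2 n n.2])),
        classInner_smul_left, classInner_irr_self (isIrr_co l), mul_one]
      exact irr_one_ne_zero hβ
    · rw [deg_ind _ (isCharacter_of_isIrr h5)]
      exact congrArg _ (deg_congr (by simp))
  obtain ⟨χ, hχ, e⟩ := key _ isIrr_one (by rw [cker_one]; exact le_top)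
  rw [deg_one, mul_one] at e
  refine ⟨⟨χ, hχ, e⟩, ?_⟩
  rw [← map_subtype_commutator]
  rintro _ ⟨c, hc, rfl⟩
  by_contra h0
  obtain ⟨β, hβ, b1, b2⟩ := exists_irr_le_cker_not_mem (X.subgroupOf (stabilizer H l)) (g := c) h0
  obtain ⟨χ', hχ', e'⟩ := key β hβ b1
  have := nd χ χ' hχ hχ' (by rw [e]; exact mt index_eq_one.1 hl) (by rw [e, e']; exact dvd_mul_right _ _)
  rw [e, e'] at this
  exact b2 ((deg_eq_one_iff_commutator_le hβ).1
    ((Nat.mul_eq_left index_ne_zero_of_finite).1 this.symm) hc)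

theorem exists_compl {s : ℕ} [Fact s.Prime] {X S : Subgroup H} [hX : X.Normal] [(S ⊔ X).Normal]
    (hS : IsPGroup s S) (hs : ¬ s ∣ Nat.card X)
    (hf : ∀ v ∈ X, (∀ a ∈ S, a * v = v * a) → v = 1) : ∃ J, IsComplement' X J := by
  have h1 := frattini_rel (le_sup_left : S ≤ S ⊔ X) hS (by
    rw [relIndex_sup_of_normal]
    exact fun e => hs (e.trans (relIndex_dvd_card_right _ _)))
  rw [← sup_assoc, sup_eq_left.2 le_normalizer, sup_comm] at h1
  refine ⟨normalizer (S : Set H), isComplement'_of_disjoint_and_mul_eq_univ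
    (disjoint_def.2 fun {v} hv hn => hf v hv fun a ha => ?_) (by rw [← normal_mul, h1]; rfl)⟩
  have m1 : ⁅a, v⁆ ∈ X := mul_mem (hX.conj_mem v hv a) (inv_mem hv)
  have m2 : ⁅a, v⁆ ∈ S := by
    rw [show ⁅a, v⁆ = a * (v * a⁻¹ * v⁻¹) by simp only [commutatorElement_def, mul_assoc]]
    exact mul_mem ha ((mem_normalizer_iff.1 hn _).1 (inv_mem ha))
  obtain ⟨k, hk⟩ := hS ⟨_, m2⟩
  refine commutatorElement_eq_one_iff_mul_comm.1 (orderOf_eq_one_iff.1 ?_)
  exact Nat.eq_one_of_dvd_coprimes (((Nat.Prime.coprime_iff_not_dvd Fact.out).2 hs).pow_left k)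
    (orderOf_dvd_of_pow_eq_one (congrArg Subtype.val hk)) (orderOf_dvd_natCard X m1)

theorem cen {θ : H → ℂ} (hθ : IsIrrCharacter H θ) {z z' : H} (hz : ∀ c : H, ⁅c, z⁆ ∈ cker θ)
    (h : θ z' = θ z) : z' * z⁻¹ ∈ cker θ := by
  have hc := isCharacter_of_isIrr hθ
  have hm : ∀ g, θ (z * g) = θ z / θ 1 * θ g := fun g => by
    have := irr_mul_of_mem_center (isIrr_defl hθ le_rfl) (z := (z : H ⧸ cker θ))
      (mem_center_iff.2 fun c => by
        obtain ⟨c, rfl⟩ := QuotientGroup.mk_surjective c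
        exact (commutator_mem_iff_commute _ c z).1 (hz c)) (g : H ⧸ cker θ)
    rwa [← QuotientGroup.mk_mul, defl_mk hc le_rfl, defl_mk hc le_rfl, defl_mk hc le_rfl,
      defl_one hc le_rfl] at this
  have h0 := irr_one_ne_zero hθ
  have h1 : θ z / θ 1 ≠ 0 := fun e => h0 (by
    have := hm z⁻¹
    rwa [mul_inv_cancel, e, zero_mul] at this)
  have h2 : z⁻¹ * z' ∈ cker θ := (mem_cker hc).2 (mul_left_cancel₀ h1 (by
    rw [← hm, mul_inv_cancel_left, h, div_mul_cancel₀ _ h0]))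
  simpa [mul_assoc] using (cker_normal θ).conj_mem _ h2 z

theorem ex2 {X : Subgroup H} [X.Normal] {a b : H} (ha : a ∉ X) (hb : b ∉ X) (a1 : ∀ c : H, ⁅c, a⁆ ∈ X)
    (b1 : ∀ c : H, ⁅c, b⁆ ∈ X) : ∃ θ, IsIrrCharacter H θ ∧ X ≤ cker θ ∧ a ∉ cker θ ∧ b ∉ cker θ := by
  have hab : ∀ a ∈ center (H ⧸ X), ∀ b ∈ center (H ⧸ X), a * b = b * a := fun a _ b hb =>
    mem_center_iff.1 hb a
  have hz : ∀ {a : H}, (∀ c : H, ⁅c, a⁆ ∈ X) → (a : H ⧸ X) ∈ center (H ⧸ X) := fun {a} h =>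
    mem_center_iff.2 fun c => by
      obtain ⟨c, rfl⟩ := QuotientGroup.mk_surjective c
      exact (commutator_mem_iff_commute _ c a).1 (h c)
  let A : center (H ⧸ X) → Subgroup (Lin (center (H ⧸ X))) := fun z =>
    (MonoidHom.mk' (fun l : Lin (center (H ⧸ X)) => l.hom z) fun _ _ => rfl).ker
  have hA : ∀ {a : H}, a ∉ X → ∀ h, A ⟨a, h⟩ ≠ ⊤ := fun {a} ha h e => by
    obtain ⟨l, h1, -⟩ := exists_lin_of_ne (Y := ⊥) hab h (mt (QuotientGroup.eq_one_iff a).1 ha)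
    exact h1 (e.ge (mem_top l))
  obtain ⟨l, l1, l2⟩ := exists_not_mem_two (hA ha (hz a1)) (hA hb (hz b1))
  have := Fintype.ofFinite (center (H ⧸ X))
  obtain ⟨χ, hχ, hi⟩ := exists_irr_over _ (isIrr_co l)
  have hc := isCharacter_of_isIrr hχ
  have key : ∀ (a : H) h, a ∈ cker (fun g : H => χ (g : H ⧸ X)) → l ∈ A ⟨a, h⟩ := fun a h m => by
    have h1 := cker_le_of_inner_ne_zero (isCharacter_comp (center (H ⧸ X)).subtype hc) (isIrr_co l) hi
      ((mem_cker_comp _ hc (h := ⟨a, h⟩)).2 ((mem_cker_comp (QuotientGroup.mk' X) hc).1 m))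
    have h2 := (mem_cker (isCharacter_of_isIrr (isIrr_co l))).1 h1
    change l.hom ⟨a, h⟩ = 1
    simpa [co] using h2
  exact ⟨_, isIrr_infl X hχ, le_cker_infl X hc, fun m => l1 (key a _ m), fun m => l2 (key b _ m)⟩

/-- the `r`-part and the `r'`-part of the order -/
theorem part {r : ℕ} (hr : r.Prime) (x : H) : ∃ j k, k.Coprime r ∧ x ^ (r ^ j * k) = 1 := by
  obtain ⟨j, k, h1, h2⟩ := Nat.exists_eq_pow_mul_and_not_dvd (orderOf_pos x).ne' r hr.ne_one
  exact ⟨j, k, (hr.coprime_iff_not_dvd.2 h1).symm, h2 ▸ pow_orderOf_eq_one x⟩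

omit [Finite H] in
theorem mem_of_cop {Y : Subgroup H} {x : H} {a b : ℕ} (h : a.Coprime b) (ha : x ^ a ∈ Y)
    (hb : x ^ b ∈ Y) : x ∈ Y := by
  have : x = (x ^ a) ^ Nat.gcdA a b * (x ^ b) ^ Nat.gcdB a b := by
    rw [← zpow_natCast, ← zpow_natCast, ← zpow_mul, ← zpow_mul, ← zpow_add, ← Nat.gcd_eq_gcd_ab, h]
    simp
  rw [this]
  exact mul_mem (zpow_mem ha _) (zpow_mem hb _)

omit [Finite H] in
theorem eq_one_of_cop {x : H} {a b : ℕ} (h : a.Coprime b) (ha : x ^ a = 1) (hb : x ^ b = 1) :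
    x = 1 := mem_of_cop (Y := ⊥) h ha hb

omit [Finite H] in
theorem pow_eq_one_of_conj {y u : H} (h : IsConj y (u * y)) (c : u * y = y * u) {k : ℕ}
    (hk : y ^ k = 1) : u ^ k = 1 := by
  have := h.pow k
  rwa [hk, isConj_one_right, Commute.mul_pow c, hk, mul_one] at this

end CfsgLib.NDiv
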