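import Cfsg.Agent.Lib.NDiv.Hyp
import Cfsg.Agent.Lib.Palfy.Two

/-! No divisibility among the nonlinear character degrees: the easy cases. -/

set_option autoImplicit false

namespace CfsgLib.NDiv

open Cfsg CfsgLib.Char CfsgLib.CharDeep CfsgLib.ChDeg CfsgLib.RelDeg CfsgLib.Palfy Subgroup MulAction
open scoped commutatorElement Pointwise

variable {G H : Type*} [Group G] [Group H] [Finite H] {φ : G →* MulAut H} {I : Subgroup G} {K L X Y : Subgroup H}
  {p q r m : ℕ}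

theorem under [X.Normal] [Fintype X] (hab : ∀ a ∈ X, ∀ b ∈ X, a * b = b * a) {ψ : H → ℂ} (hψ : IsIrrCharacter H ψ)
    (h : ¬ X ≤ cker ψ) : ∃ l : Lin X, l ≠ 1 ∧ classInner (fun n : X => ψ n) (co l) ≠ 0 := by
  obtain ⟨θ, hθ, h1, h2⟩ := exists_irr_under_ne_one X hψ h
  obtain ⟨l, rfl⟩ := exists_co (isCharacter_of_isIrr hθ) ((deg_eq_one_iff_commutator_le hθ).2
    (commutator_le.2 fun a _ b _ => by
      rw [commutatorElement_eq_one_iff_mul_comm.2 (Subtype.ext (hab _ a.2 _ b.2))]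
      exact one_mem _))
  exact ⟨l, fun e => h1 (by rw [e, co_one]), h2⟩

theorem above (nd : ND H) {J : Subgroup H} [X.Normal] (hab : ∀ a ∈ X, ∀ b ∈ X, a * b = b * a) (hc : IsComplement' X J)
    (hs : ∀ l : Lin X, l ≠ 1 → stabilizer H l ≠ ⊤) {ψ : H → ℂ} (hψ : IsIrrCharacter H ψ) (h : ¬ X ≤ cker ψ) :
    ∃ l : Lin X, l ≠ 1 ∧ charDegree ψ = (stabilizer H l).index := by
  have := Fintype.ofFinite X
  obtain ⟨l, h1, h2⟩ := under hab hψ h
  obtain ⟨⟨χ, hχ, e⟩, -⟩ := split nd hc l (hs l h1)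
  refine ⟨l, h1, e ▸ (nd χ ψ hχ hψ (e ▸ mt index_eq_one.1 (hs l h1)) ?_).symm⟩
  rw [e, ← inertia_co]
  exact index_inertia_dvd X hψ (isIrr_co l) h2

theorem not_dvd_card (hq : q.Prime) (h : ∀ y ∈ Y, (orderOf y).Coprime q) : ¬ q ∣ Nat.card Y := fun c => by
  have := Fact.mk hq
  obtain ⟨a, ha⟩ := exists_prime_orderOf_dvd_card' q c
  have := h a a.2
  rw [orderOf_coe, ha, Nat.coprime_self] at this
  exact hq.ne_one this

omit [Finite H] in
theorem cent_le_stab [X.Normal] (l : Lin X) : centralizer (X : Set H) ≤ stabilizer H l :=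
  fun _ hg => smul_lin_of_cent hg l

omit [Finite H] in
theorem inv_L (hL : ∀ y, y ∈ L ↔ (orderOf y).Coprime q) : Inv φ L := fun g y hy =>
  (hL _).2 (by rw [MulEquiv.orderOf_eq]; exact (hL y).1 hy)

omit [Finite H] in
theorem comm_mem [L.Normal] {z : H} (hz : z ∈ L) (x : H) : ⁅z, x⁆ ∈ L ⊓ _root_.commutator H :=
  mem_inf.2 ⟨by simpa only [commutatorElement_def, mul_assoc] using mul_mem hz (Normal.conj_mem ‹_› _ (inv_mem hz) x),
    commutator_mem_commutator (mem_top _) (mem_top _)⟩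

namespace Hyp

variable (h : Hyp φ I K p q)
include h

theorem caseBot (hL : ∀ y, y ∈ L ↔ (orderOf y).Coprime q) {k : ℕ} (hk : L.index = q ^ k)
    (e : L ⊓ _root_.commutator H = ⊥) : Concl H := by
  have := h.normal (inv_L hL)
  have key : ∀ ψ, IsIrrCharacter H ψ → ∃ a, charDegree ψ = q ^ a := fun ψ hψ => by
    obtain ⟨a, -, e⟩ := (Nat.dvd_prime_pow h.pq).1 (hk ▸ deg_dvd_index_of_comm hψ L fun a ha b _ =>
      commutatorElement_eq_one_iff_mul_comm.1 (mem_bot.1 (e ▸ comm_mem ha b)))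
    exact ⟨a, e⟩
  by_cases c : ∃ χ, IsIrrCharacter H χ ∧ charDegree χ ≠ 1
  · obtain ⟨χ, hχ, h1⟩ := c
    refine ⟨charDegree χ, fun ψ hψ => or_iff_not_imp_left.2 fun h2 => ?_⟩
    obtain ⟨a, ea⟩ := key χ hχ
    obtain ⟨b, eb⟩ := key ψ hψ
    rcases le_total a b with k | k
    · exact (h.nd χ ψ hχ hψ h1 (ea ▸ eb ▸ pow_dvd_pow q k)).symm
    · exact h.nd ψ χ hψ hχ h2 (ea ▸ eb ▸ pow_dvd_pow q k)
  · push Not at c
    exact ⟨1, fun ψ hψ => Or.inl (c ψ hψ)⟩

theorem L_le (hL : ∀ y, y ∈ L ↔ (orderOf y).Coprime q) : L ≤ K := fun y hy =>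
  mem_of_cop ((hL y).1 hy) (by rw [pow_orderOf_eq_one]; exact one_mem _) (h.pow y)

theorem caseEq (hL : ∀ y, y ∈ L ↔ (orderOf y).Coprime q) {k : ℕ} (hk : L.index = q ^ k) (hX : Mn φ X r) [X.Normal]
    (e : L ⊓ _root_.commutator H = X) (ih : Concl (H ⧸ X)) : Concl H := by
  have := h.normal (inv_L hL)
  have := Fact.mk h.pq
  have hD : X ≤ _root_.commutator H := e ▸ inf_le_right
  have hq : ∀ y ∈ X, (orderOf y).Coprime q := fun y hy => (hL y).1 (e.ge hy).1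
  obtain ⟨Q⟩ : Nonempty (Sylow q H) := inferInstance
  have hQ : L ⊔ Q = ⊤ := index_eq_one.1 (Nat.eq_one_of_dvd_coprimes
    (((h.pq.coprime_iff_not_dvd).2 Q.not_dvd_index).pow_left k) (hk ▸ index_dvd_of_le le_sup_left)
    (index_dvd_of_le le_sup_right))
  have : ((Q : Subgroup H) ⊔ X).Normal := ⟨fun y hy g => by
    obtain ⟨l, hl, c, hc, rfl⟩ : g ∈ (L : Set H) * (Q : Subgroup H) := by rw [← normal_mul, hQ]; exact mem_top g
    have hc' : c ∈ (Q : Subgroup H) ⊔ X := mem_sup_left hc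
    have m := mul_mem (mul_mem hc' hy) (inv_mem hc')
    have := mul_mem (mem_sup_right (e ▸ comm_mem hl (c * y * c⁻¹)) : _ ∈ (Q : Subgroup H) ⊔ X) m
    convert this using 1
    simp only [commutatorElement_def]
    group⟩
  obtain ⟨x, hx, hx'⟩ : ∃ x ∈ (Q : Subgroup H), x ∉ K := by
    by_contra! c
    exact h.ne (eq_top_iff.2 (hQ ▸ sup_le (h.L_le hL) c))
  have fp : ∀ v ∈ X, x * v = v * x → v = 1 := fun v hv => h.fpf1 hx' (hD hv) (hq v hv)
  obtain ⟨J, hJ⟩ := exists_compl Q.isPGroup' (not_dvd_card h.pq hq) fun v hv c => fp v hv (c x hx)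
  have hs : ∀ l : Lin X, l ≠ 1 → stabilizer H l ≠ ⊤ := fun l h1 c => h1 (lin_eq_one (c ▸ mem_top x) fp)
  by_cases c : _root_.commutator H ≤ X
  · refine ⟨(centralizer (X : Set H)).index, fun ψ hψ => or_iff_not_imp_left.2 fun h1 => ?_⟩
    obtain ⟨l, l1, l2⟩ := above h.nd hX.ab hJ hs hψ fun c' => h1 ((deg_eq_one_iff_commutator_le hψ).2 (c.trans c'))
    rw [l2, le_antisymm (fun t ht => by_contra fun n => l1 (lin_eq_one ht (h.stab hX hD
      (fun d hd => mem_centralizer_iff.2 fun v hv => hX.ab v hv d (c hd)) n))) (cent_le_stab l)]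
  obtain ⟨d, hd, hd'⟩ := SetLike.not_le_iff_exists.1 c
  obtain ⟨χ, hχ, c1, c2⟩ := exists_irr_le_cker_not_mem X hd'
  have n1 : charDegree χ ≠ 1 := fun k => c2 ((deg_eq_one_iff_commutator_le hχ).1 k hd)
  refine ⟨charDegree χ, fun ψ hψ => or_iff_not_imp_left.2 fun h1 => ?_⟩
  by_cases c' : X ≤ cker ψ
  · obtain ⟨m, hm⟩ := ih
    have k1 := hm _ (isIrr_defl hψ c')
    have k2 := hm _ (isIrr_defl hχ c1)
    rw [deg_defl (isCharacter_of_isIrr hψ) c'] at k1
    rw [deg_defl (isCharacter_of_isIrr hχ) c1] at k2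
    rw [k1.resolve_left h1, k2.resolve_left n1]
  obtain ⟨l, l1, l2⟩ := above h.nd hX.ab hJ hs hψ c'
  have hZ : ∀ z ∈ L, ∀ x, ⁅z, x⁆ ∈ X := fun z hz x => e ▸ comm_mem hz x
  have k1 := deg_le_index_of_commutator_le_cker hχ _
    ((commutator_sup_le (split h.nd hJ l (hs l l1)).2 hZ).trans c1)
  obtain ⟨a, -, ea⟩ := (Nat.dvd_prime_pow h.pq).1 (hk ▸ deg_dvd_index_of_commutator_le_cker hχ L
    ((commutator_le.2 fun a ha b _ => hZ a ha b).trans c1))
  obtain ⟨b, -, eb⟩ := (Nat.dvd_prime_pow h.pq).1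
    (hk ▸ index_dvd_of_le (le_sup_right : L ≤ stabilizer H l ⊔ L))
  refine (h.nd χ ψ hχ hψ n1 (l2 ▸ Dvd.dvd.trans ?_ (index_dvd_of_le (le_sup_left : _ ≤ stabilizer H l ⊔ L)))).symm
  rw [ea, eb] at k1 ⊢
  exact pow_dvd_pow q ((Nat.pow_le_pow_iff_right h.pq.one_lt).1 k1)

theorem two {W : Subgroup H} [hW : W.Normal] (W1 : W ≠ ⊥) (WD : W ≤ _root_.commutator H)
    (hq : ∀ y ∈ W, (orderOf y).Coprime q) (hcd : ∀ χ, IsIrrCharacter H χ → charDegree χ = 1 ∨ charDegree χ = m) :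
    (∃ χ, IsIrrCharacter H χ ∧ charDegree χ = m) ∧ m ≠ 1 ∧ (Nat.card W).Coprime m ∧
      (centralizer (W : Set H)).index = m ∧
      (∀ a ∈ centralizer (W : Set H), ∀ b ∈ centralizer (W : Set H), a * b = b * a) ∧
      _root_.commutator H ≤ centralizer (W : Set H) ∧
      ∀ y ∉ centralizer (W : Set H), ∀ u ∈ W, y * u = u * y → u = 1 := by
  obtain ⟨χ, hχ, n1⟩ := exists_irr_deg_ne_one (G := H) fun e => W1 (eq_bot_iff.2 (e ▸ WD))
  have em := (hcd χ hχ).resolve_left n1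
  have m1 : m ≠ 1 := em ▸ n1
  obtain ⟨x₀, h0⟩ := h.ex_x
  obtain ⟨j, k, k1, k2⟩ := part h.pq x₀
  have hx : x₀ ^ k ∉ K := fun c => h0 (mem_of_cop k1 c (h.pow x₀))
  have fp : ∀ v ∈ W, x₀ ^ k * v = v * x₀ ^ k → v = 1 := fun v hv => h.fpf1 hx (WD hv) (hq v hv)
  have cop : (Nat.card W).Coprime m := (RelDeg.coprime_of_forall fun s hs hm => by
    rcases eq_or_ne s q with rfl | n
    · exact not_dvd_card hs hq
    obtain ⟨S, hS, s1, s2, -⟩ := exists_normal_pi_complement {s} (by simpa using hs)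
      (by simpa using fun ψ hψ h1 => (hcd ψ hψ).resolve_left h1 ▸ hm)
    have e := Nat.eq_prime_pow_of_unique_prime_dvd (p := s) (index_ne_zero_of_finite (H := S))
      fun hd hm => by simpa using s2 _ hd hm
    have xs : x₀ ^ k ∈ S := mem_of_cop (((Nat.coprime_primes hs h.pq).2 n).pow _ j) (e ▸ S.pow_index_mem _)
      (by rw [← pow_mul, mul_comm, k2]; exact one_mem _)
    refine fun c => s1 s (by simp) (c.trans (card_dvd_of_le fun w hw => ?_))
    obtain ⟨u, -, rfl⟩ := surj (fun y hy => hW.conj_mem y hy _) fp hw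
    exact (comm_mem xs u).1)
  have dd : ∀ a ∈ _root_.commutator H, ∀ b ∈ _root_.commutator H, a * b = b * a := fun a ha b hb => by
    have := derived_two_of_two_deg hcd
    rw [derivedSeries_succ, derivedSeries_one] at this
    exact commutatorElement_eq_one_iff_mul_comm.1 (mem_bot.1 (this ▸ commutator_mem_commutator ha hb))
  have ab : ∀ a ∈ W, ∀ b ∈ W, a * b = b * a := fun a ha b hb => dd a (WD ha) b (WD hb)
  obtain ⟨w, hw, w1⟩ := (W.bot_or_exists_ne_one).resolve_left W1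
  rcases two_deg hcd ⟨χ, hχ, em⟩ m1 with ⟨A, hA, a1, a2⟩ | ⟨s, e, hs, e1, P, A, hP, -, p1, a1, -, a2, -⟩
  · have WA : W ≤ A := fun w hw => mem_of_cop cop
      (by rw [orderOf_dvd_iff_pow_eq_one.1 (orderOf_dvd_natCard W hw)]; exact one_mem _) (a2 ▸ A.pow_index_mem w)
    have AC : A ≤ centralizer (W : Set H) := fun a ha => mem_centralizer_iff.2 fun w hw => a1 w (WA hw) a ha
    have st : ∀ l : Lin W, l ≠ 1 → A = stabilizer H l := fun l l1 => by
      have := (inertia_of_two_deg hcd W ab cop (isIrr_co l)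
        (by rw [inertia_co]; exact fun c => l1 (lin_eq_one (c ▸ mem_top _) fp))).1
      rw [inertia_co] at this
      exact eq_of_le_of_index_le (AC.trans (cent_le_stab l)) (by rw [this, a2])
    obtain ⟨l, l1, -⟩ := exists_lin_of_ne (Y := ⊥) ab hw w1
    have e : centralizer (W : Set H) = A :=
      le_antisymm ((cent_le_stab l).trans (st l fun c => l1 (by rw [c]; rfl)).ge) AC
    refine ⟨⟨χ, hχ, em⟩, m1, cop, e ▸ a2, e ▸ a1, fun d hd => mem_centralizer_iff.2 fun w hw => dd w (WD hw) d hd,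
      fun y hy u hu c => by_contra fun u1 => ?_⟩
    obtain ⟨l, l1, l2⟩ := exists_lin_fix ab hu u1 c
    exact hy (AC (st l l1 ▸ l2))
  · obtain rfl : q = s := (Nat.prime_dvd_prime_iff_eq h.pq hs).1
      (h.pq.dvd_of_dvd_pow (e1 ▸ em ▸ (h.qd χ hχ n1).1))
    have DP := commutator_sup_le (K := P) (T := A) (Z := P) (commutator_le.2 fun a ha b hb => by
      rw [commutatorElement_eq_one_iff_mul_comm.2 (a1 a ha b hb)]; exact one_mem _) fun z hz x => (comm_mem hz x).1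
    rw [sup_comm, a2] at DP
    obtain ⟨i, hi⟩ := p1 ⟨w, DP (WD hw)⟩
    exact absurd (eq_one_of_cop ((hq w hw).pow_right i) (pow_orderOf_eq_one w) (congrArg Subtype.val hi)) w1

end Hyp

omit [Finite H] in
theorem pow_comm_aux {a t : H} (h : Commute ⁅a, t⁆ a) (k : ℕ) : a ^ k * t = ⁅a, t⁆ ^ k * t * a ^ k := by
  induction k with
  | zero => simp
  | succ k ih =>
    rw [pow_succ', mul_assoc, ih, ← mul_assoc, ← mul_assoc, ← (h.pow_left k).eq, pow_succ]
    simp only [commutatorElement_def, mul_assoc, inv_mul_cancel_left]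

omit [Finite H] in
theorem cnt [Finite G] [Fact p.Prime] (hr : r.Prime) {E : Subgroup G} [E.Normal] (hc : _root_.commutator G ≤ I)
    (hm : ∀ i ∈ I, i ^ m ∈ E) (hp : m.Coprime p) (hY : Inv φ Y) [Finite Y] (pg : IsPGroup r Y)
    (hE : ∀ g ∈ E, ∀ y ∈ Y, φ g y = y) (fus : ∀ g, ∀ y ∈ Y, ∃ i ∈ I, φ g y = φ i y) (EI : E ≤ I)
    (cen : ∀ y ∈ Y, y ≠ 1 → ∀ i ∈ I, φ i y = y → ∀ g : G, ⁅g, i⁆ ∈ E) :
    ∃ a c, Nat.card Y = r ^ a ∧ r ^ a - 1 = Nat.card (Sylow p (G ⧸ E)) * (r ^ c - 1) := by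
  have := Fact.mk hr
  let ρ : G →* Equiv.Perm Y := MonoidHom.mk' (fun g => Equiv.Perm.subtypePerm (φ g : Equiv.Perm H) fun x => hY.iff)
    fun a b => by
      ext x
      change φ (a * b) x = φ a (φ b x)
      rw [map_mul, MulAut.mul_apply]
  letI : MulAction (G ⧸ E) Y :=
    MulAction.compHom Y (QuotientGroup.lift E ρ fun g hg => Equiv.ext fun y => Subtype.ext (hE g hg y y.2))
  have sm : ∀ (g : G) (y : Y), (g : G ⧸ E) ∈ stabilizer (G ⧸ E) y ↔ φ g y = y := fun g y => Subtype.ext_iff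
  have hI : ∀ z ∈ I.map (QuotientGroup.mk' E), (orderOf z).Coprime p := by
    rintro _ ⟨i, hi, rfl⟩
    exact hp.coprime_dvd_left (orderOf_dvd_of_pow_eq_one ((QuotientGroup.eq_one_iff _).2 (hm i hi)))
  obtain ⟨P⟩ : Nonempty (Sylow p (G ⧸ E)) := inferInstance
  have key := count (t := p) (Γ := G ⧸ E) {y : Y | y ≠ 1} (fun g y hy e => by
    obtain ⟨g, rfl⟩ := QuotientGroup.mk_surjective g
    exact hy (Subtype.ext ((φ g).map_eq_one_iff.1 (congrArg Subtype.val e)))) (fun y hy => ?_) P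
  · let F : Subgroup Y :=
      { carrier := {y | ∀ g : G, (g : G ⧸ E) ∈ (P : Subgroup (G ⧸ E)) → φ g y = y}
        one_mem' := fun g _ => map_one _
        mul_mem' := fun {a b} ha hb g hg => by rw [coe_mul, map_mul, ha g hg, hb g hg]
        inv_mem' := fun {a} ha g hg => by rw [coe_inv, map_inv, ha g hg] }
    obtain ⟨a, ha⟩ := IsPGroup.iff_card.1 pg
    obtain ⟨c, hc⟩ := IsPGroup.iff_card.1 (pg.to_subgroup F)
    refine ⟨a, c, ha, ?_⟩
    have e1 : Nat.card {y : Y | y ≠ 1} = r ^ a - 1 := by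
      rw [← ha, ← Set.ncard_univ Y, ← Set.ncard_diff_singleton_of_mem (Set.mem_univ (1 : Y)), Nat.card_coe_set_eq]
      congr 1
      ext
      simp
    have e2 : Nat.card {w // w ∈ {y : Y | y ≠ 1} ∧ (P : Subgroup (G ⧸ E)) ≤ stabilizer (G ⧸ E) w} = r ^ c - 1 := by
      rw [← hc, show Nat.card F = (F : Set Y).ncard from Nat.card_coe_set_eq _,
        ← Set.ncard_diff_singleton_of_mem F.one_mem, ← Nat.card_coe_set_eq]
      refine Nat.card_congr (Equiv.subtypeEquivRight fun w => ⟨fun k => ⟨fun g hg => (sm g w).1 (k.2 hg), k.1⟩,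
        fun k => ⟨k.2, fun g hg => ?_⟩⟩)
      obtain ⟨g, rfl⟩ := QuotientGroup.mk_surjective g
      exact (sm g w).2 (k.1 g hg)
    rw [← e1, ← e2, key]
  · obtain ⟨P, hP⟩ := exists_sylow_le (p := p) (T := stabilizer (G ⧸ E) y) (by
      rw [← FullRam.relIndex_eq_index (R := I.map (QuotientGroup.mk' E)) fun g => ?_]
      · exact fun c => not_dvd_card Fact.out hI (c.trans (relIndex_dvd_card_right _ _))
      · obtain ⟨g, rfl⟩ := QuotientGroup.mk_surjective g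
        obtain ⟨i, hi, e⟩ := fus g⁻¹ y y.2
        refine ⟨(i⁻¹ : G), ⟨_, inv_mem hi, rfl⟩, (sm (g * i⁻¹⁻¹) y).2 ?_⟩
        rw [inv_inv, map_mul, MulAut.mul_apply, ← e, phi_inv])
    refine ⟨P, hP, fun P' hP' => Sylow.ext (P'.is_maximal' P.isPGroup' ?_).symm⟩
    refine inf_eq_left.1 ((P'.isPGroup'.inf_normalizer_sylow P).symm.trans (inf_eq_left.2 fun a ha => ?_))
    refine centralizer_le_normalizer _ (mem_centralizer_iff.2 fun t ht => ?_)
    obtain ⟨a, rfl⟩ := QuotientGroup.mk_surjective a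
    obtain ⟨t, rfl⟩ := QuotientGroup.mk_surjective t
    have z1 : ⁅a, t⁆ ∈ I := hc (commutator_mem_commutator (mem_top _) (mem_top _))
    have z2 := (sm ⁅a, t⁆ y).1
      (mul_mem (mul_mem (mul_mem (hP' ha) (hP ht)) (inv_mem (hP' ha))) (inv_mem (hP ht)))
    obtain ⟨k, hk⟩ := P'.isPGroup' ⟨_, ha⟩
    have z3 := pow_comm_aux (t := (t : G ⧸ E)) ((commutator_mem_iff_commute E a ⁅a, t⁆).1
      (cen y y.2 (fun e => hy (Subtype.ext e)) _ z1 z2 a)).symm (p ^ k)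
    rw [show (a : G ⧸ E) ^ p ^ k = 1 from congrArg Subtype.val hk, one_mul, mul_one, eq_comm, mul_eq_right] at z3
    exact (commutatorElement_eq_one_iff_mul_comm.1 (eq_one_of_cop ((hI _ ⟨_, z1, rfl⟩).pow_right k)
      (pow_orderOf_eq_one _) z3)).symm

end CfsgLib.NDiv
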