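import Cfsg.Agent.Lib.NDiv.Case1
import Cfsg.Agent.Lib.LAE.CharP
import Cfsg.Agent.Lib.Frob.Complement
import Cfsg.Agent.Lib.Palfy.Ov

/-! No divisibility among the nonlinear character degrees: the middle layer, first case. -/

set_option autoImplicit false

namespace CfsgLib.NDiv

open Cfsg CfsgLib.Char CfsgLib.CharDeep CfsgLib.ChDeg CfsgLib.RelDeg CfsgLib.Palfy Subgroup MulAction
open scoped commutatorElement Pointwise

variable {G H : Type*} [Group G] [Group H] [Finite H] {φ : G →* MulAut H} {I : Subgroup G}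
  {K L M X Y C : Subgroup H} {p q r m : ℕ}

/-- the data obtained from the quotient -/
structure Mid (φ : G →* MulAut H) (K M X C : Subgroup H) (q m : ℕ) : Prop where
  iM : Inv φ M
  XM : X ≤ M
  ex : ∃ u ∈ M, u ∉ X
  MD : M ≤ _root_.commutator H
  qM : ∀ u ∈ M, (orderOf u).Coprime q
  nq : ∀ e : H, (orderOf e).Coprime q → ∀ y : H, ⁅e, y⁆ ∈ M
  iC : Inv φ C
  idx : C.index = m
  cc : ∀ a ∈ C, ∀ b ∈ C, ⁅a, b⁆ ∈ X
  DC : _root_.commutator H ≤ C
  CK : C ≤ K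
  mem : ∀ y, y ∈ C ↔ ∀ u ∈ M, ⁅y, u⁆ ∈ X
  fp : ∀ y ∉ C, ∀ u ∈ M, ⁅y, u⁆ ∈ X → u ∈ X
  cop : ∀ s, s ∣ m → ∀ u ∈ M, u ^ s ∈ X → u ∈ X
  deg : ∃ χ, IsIrrCharacter H χ ∧ charDegree χ = m
  m1 : m ≠ 1

theorem exists_pp {g : H} (hg : g ∉ Y) :
    ∃ s k j : ℕ, s.Prime ∧ s ∣ orderOf g ∧ g ^ k ∉ Y ∧ (g ^ k) ^ s ^ j = 1 := by
  induction hn : orderOf g using Nat.strong_induction_on generalizing g with | _ n ih => ?_
  subst hn
  obtain ⟨s, hs, hd⟩ := Nat.exists_prime_and_dvd (n := orderOf g) fun e => hg (orderOf_eq_one_iff.1 e ▸ one_mem _)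
  obtain ⟨j, k, h1, h2⟩ := Nat.exists_eq_pow_mul_and_not_dvd (orderOf_pos g).ne' s hs.ne_one
  by_cases c : g ^ k ∈ Y
  · have d : orderOf (g ^ s ^ j) ∣ k := orderOf_dvd_of_pow_eq_one (by rw [← pow_mul, ← h2, pow_orderOf_eq_one])
    have d' : k ∣ orderOf g := h2 ▸ dvd_mul_left _ _
    obtain ⟨s', k', j', a1, a2, a3, a4⟩ := ih _ ((Nat.le_of_dvd (Nat.pos_of_dvd_of_pos d' (orderOf_pos g)) d).trans_lt
      ((Nat.le_of_dvd (orderOf_pos g) d').lt_of_ne fun e => h1 (e ▸ hd)))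
      (fun c' => hg (mem_of_cop ((hs.coprime_iff_not_dvd.2 h1).pow_left j) c' c)) rfl
    exact ⟨s', s ^ j * k', j', a1, a2.trans (d.trans d'), by rwa [pow_mul], by rwa [pow_mul]⟩
  · exact ⟨s, k, j, hs, hd, c, by rw [← pow_mul, mul_comm, ← h2, pow_orderOf_eq_one]⟩

namespace Hyp

variable (h : Hyp φ I K p q)
include h

theorem exists_mid (hL : ∀ y, y ∈ L ↔ (orderOf y).Coprime q) (hX : Inv φ X) [X.Normal]
    (e : X < L ⊓ _root_.commutator H) (ih : Concl (H ⧸ X)) :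
    ∃ C m, Mid φ K (L ⊓ _root_.commutator H) X C q m := by
  have := h.normal (inv_L hL)
  obtain ⟨m, hm⟩ := ih
  set M := L ⊓ _root_.commutator H
  have iM : Inv φ M := (inv_L hL).inf inv_comm
  have := h.normal iM
  have hq := h.quot hX (e.le.trans inf_le_right)
  obtain ⟨u, hu, hu'⟩ := SetLike.exists_of_lt e
  have WD : M.map (QuotientGroup.mk' X) ≤ _root_.commutator (H ⧸ X) :=
    map_commutator_of_surjective (QuotientGroup.mk'_surjective X) ▸ map_mono inf_le_right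
  have Wq : ∀ y ∈ M.map (QuotientGroup.mk' X), (orderOf y).Coprime q := by
    rintro _ ⟨y, hy, rfl⟩
    exact ((hL y).1 hy.1).coprime_dvd_left (orderOf_map_dvd _ y)
  have := Normal.map ‹M.Normal› _ (QuotientGroup.mk'_surjective X)
  obtain ⟨⟨χ, hχ, a1⟩, a2, a3, a4, a5, a6, a7⟩ := hq.two (W := M.map (QuotientGroup.mk' X))
    (fun c => hu' ((QuotientGroup.eq_one_iff u).1 (mem_bot.1 (c ▸ ⟨u, hu, rfl⟩)))) WD Wq hm
  have mem : ∀ y, y ∈ (centralizer (M.map (QuotientGroup.mk' X) : Set (H ⧸ X))).comap (QuotientGroup.mk' X) ↔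
      ∀ u ∈ M, ⁅y, u⁆ ∈ X := fun y => ⟨fun c u hu => (commutator_mem_iff_commute X y u).2
        (mem_centralizer_iff.1 c _ ⟨u, hu, rfl⟩).symm, fun c => mem_centralizer_iff.2 (by
          rintro _ ⟨u, hu, rfl⟩
          exact ((commutator_mem_iff_commute X y u).1 (c u hu)).symm)⟩
  refine ⟨_, m, iM, e.le, ⟨u, hu, hu'⟩, inf_le_right, fun u hu => (hL u).1 hu.1, fun e he y => comm_mem ((hL e).2 he) y,
    fun g y hy => (mem _).2 fun u hu => ?_, by rw [index_comap_of_surjective _ (QuotientGroup.mk'_surjective X), a4],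
    fun a ha b hb => (commutator_mem_iff_commute X a b).2 (a5 _ ha _ hb), fun d hd => a6 ?_,
    fun y hy => by_contra fun n => hu' ?_, mem, fun y hy u hu c => (QuotientGroup.eq_one_iff u).1
      (a7 _ hy _ ⟨u, hu, rfl⟩ ((commutator_mem_iff_commute X y u).1 c)), fun s hs u hu c => ?_,
    ⟨_, isIrr_infl X hχ, a1⟩, a2⟩
  · rw [← phi_inv (φ := φ) g u, ← map_commutatorElement]
    exact hX g _ ((mem y).1 hy _ (iM _ u hu))
  · exact map_commutator_of_surjective (QuotientGroup.mk'_surjective X) ▸ ⟨d, hd, rfl⟩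
  · exact (QuotientGroup.eq_one_iff u).1 (hq.fpf1 (fun c => n ((mk_mem_map (e.le.trans (inf_le_right.trans h.DK))).1 c))
      (WD ⟨u, hu, rfl⟩) (Wq _ ⟨u, hu, rfl⟩) ((commutator_mem_iff_commute X y u).1 ((mem y).1 hy u hu)))
  · exact (QuotientGroup.eq_one_iff u).1 (eq_one_of_cop (a3.coprime_dvd_right hs)
      (orderOf_dvd_iff_pow_eq_one.1 (orderOf_dvd_natCard _ ⟨u, hu, rfl⟩)) ((QuotientGroup.eq_one_iff _).2 c))

theorem caseAb (d : Mid φ K M X C q m) (e : ⁅C, C⁆ = ⊥) : Concl H := by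
  have := h.normal d.iC
  obtain ⟨χ, hχ, a⟩ := d.deg
  exact ⟨m, fun ψ hψ => or_iff_not_imp_left.2 fun n => a ▸ h.nd ψ χ hψ hχ n (a ▸ d.idx ▸ deg_dvd_index_of_comm hψ C
    fun a ha b hb => commutatorElement_eq_one_iff_mul_comm.1 (mem_bot.1 (e ▸ commutator_mem_commutator ha hb)))⟩

theorem caseA (hX : Mn φ X r) [X.Normal] (d : Mid φ K M X C q m) (n : ¬ X ≤ centralizer (C : Set H)) : False := by
  have := h.normal d.iC
  have := h.normal d.iM
  have := Fact.mk hX.pr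
  have XC : X ≤ C := d.XM.trans (d.MD.trans d.DC)
  obtain ⟨g, hg, g1, g2⟩ : ∃ g ∈ C, (orderOf g).Coprime r ∧ g ∉ centralizer (X : Set H) := by
    by_contra! c
    obtain ⟨k, hk⟩ := LAE.exists_iterCommutator_eq_bot (B := C) hX.pg le_normalizer_of_normal (LAE.pResOf_le_iff.2 c)
    exact n (inf_eq_left.1 ((hX.min _ (hX.inv.inf d.iC.cent) inf_le_left).resolve_left
      (LAE.inf_centralizer_ne_bot_of_iterCommutator le_normalizer_of_normal hk hX.ne)))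
  obtain ⟨s, k, j, hs, s1, s2, s3⟩ := exists_pp g2
  have := Fact.mk hs
  let S₁ : Subgroup H :=
    { carrier := {c | c ∈ C ∧ ∃ j, (c : H ⧸ X) ^ s ^ j = 1}
      one_mem' := ⟨one_mem _, 0, by simp⟩
      mul_mem' := fun {a b} ⟨ha, i, hi⟩ ⟨hb, j, hj⟩ => ⟨mul_mem ha hb, i + j, by
        rw [QuotientGroup.mk_mul, ((commutator_mem_iff_commute X a b).1 (d.cc a ha b hb)).mul_pow, pow_add, pow_mul,
          hi, mul_comm (s ^ i), pow_mul, hj, one_pow, one_pow, one_mul]⟩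
      inv_mem' := fun {a} ⟨ha, i, hi⟩ => ⟨inv_mem ha, i, by rw [QuotientGroup.mk_inv, inv_pow, hi, inv_one]⟩ }
  have i1 : Inv φ S₁ := fun g y ⟨hy, i, hi⟩ => ⟨d.iC g y hy, i, by rw [← qt_mk hX.inv, ← map_pow, hi, map_one]⟩
  obtain ⟨S, hS⟩ := LAE.exists_isSylowIn s S₁
  have eS : S ⊔ X = S₁ := le_antisymm (sup_le hS.le fun x hx => ⟨XC hx, 0, by simpa using hx⟩)
    (hS.le_of_pResOf_le ((LAE.pResOf_le_of_forall_pow_mem (H := S₁) fun g ⟨_, i, hi⟩ =>
      ⟨i, (QuotientGroup.eq_one_iff _).1 hi⟩).trans le_sup_right) le_sup_left)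
  have : (S ⊔ X).Normal := eS ▸ h.normal i1
  have z := (hX.min _ (hX.inv.inf i1.cent) inf_le_left).resolve_right fun e => s2
    (le_centralizer_iff.1 (inf_eq_left.1 e) ⟨pow_mem hg k, j, by rw [← QuotientGroup.mk_pow, s3]; rfl⟩)
  obtain ⟨J, hJ⟩ := exists_compl (X := X) hS.isPGroup (not_dvd_card hs fun y hy =>
    ((Nat.coprime_primes hX.pr hs).2 fun e => hX.pr.ne_one (Nat.eq_one_of_dvd_coprimes g1 (e ▸ s1) dvd_rfl)).coprime_dvd_left
      (orderOf_dvd_of_pow_eq_one (hX.ex y hy))) fun v hv c => mem_bot.1 (z ▸ ⟨hv, by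
        rw [← eS, LAE.centralizer_sup]
        exact ⟨mem_centralizer_iff.2 c, mem_centralizer_iff.2 fun x hx => hX.ab x hx v hv⟩⟩)
  obtain ⟨x, hx⟩ := h.ex_x
  have fp : ∀ u ∈ M, u ∉ X → ∀ v ∈ X, u * v = v * u → v = 1 := fun u hu hu' v hv c => by_contra fun v1 => by
    obtain ⟨l, l1, l2⟩ := exists_lin_fix hX.ab hv v1 c
    have t1 : stabilizer H l ≠ ⊤ := fun e => l1 (lin_eq_one (e ▸ mem_top x) fun y hy =>
      h.fpf1 hx (d.MD (d.XM hy)) (d.qM y (d.XM hy)))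
    obtain ⟨⟨ψ, hψ, e1⟩, e2⟩ := split h.nd hJ l t1
    obtain ⟨y, y1, y2⟩ : ∃ y ∈ stabilizer H l, y ∉ C := by
      by_contra! c
      obtain ⟨χ, hχ, a⟩ := d.deg
      have := h.nd χ ψ hχ hψ (a ▸ d.m1) (a ▸ e1 ▸ d.idx ▸ index_dvd_of_le c)
      refine l1 (Palfy.lin_eq_one (eq_of_le_of_index_le c (by rw [← e1, ← this, a, d.idx])).ge
        ((hX.min _ (hX.inv.comm d.iC) (commutator_le_left _ _)).resolve_left fun e => n ?_).ge)
      exact commutator_eq_bot_iff_le_centralizer.1 e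
    exact hu' (d.fp y y2 u hu (e2 (commutator_mem_commutator y1 l2)))
  have dj : ∀ a ∈ J, a ∈ X → a = 1 := fun a ha hx => disjoint_def.1 hJ.disjoint hx ha
  have pq := Frob.pqCond_subgroup_iff.1 (Frob.pqCond_of_fpf (H := M ⊓ J) hX.ne le_normalizer_of_normal
    fun a ha a1 => eq_bot_iff.2 fun v hv => fp a ha.1 (fun c => a1 (dj a ha.2 c)) v hv.1
      (mem_centralizer_singleton_iff.1 hv.2).symm)
  obtain ⟨π, -, p2, p3⟩ := exists_proj hJ
  have pm : ∀ u ∈ M, (π u : H) ∈ M ⊓ J := fun u hu =>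
    ⟨(inv_mem_iff (H := M)).1 ((mul_mem_cancel_left hu).1 (d.XM (p3 u))), (π u).2⟩
  obtain ⟨u, hu, hu'⟩ := d.ex
  obtain ⟨t, ht, t1⟩ := Nat.exists_prime_and_dvd (n := Nat.card (M ⊓ J : Subgroup H)) fun e => hu' (by
    have := p3 u
    rwa [mem_bot.1 ((card_eq_one.1 e).le (pm u hu)), inv_one, mul_one] at this)
  have := Fact.mk ht
  obtain ⟨⟨a, ha⟩, a1⟩ := exists_prime_orderOf_dvd_card' t t1
  replace a1 : orderOf a = t := (orderOf_coe _).trans a1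
  have a2 : a ^ t = 1 := a1 ▸ pow_orderOf_eq_one a
  have key : ∀ u ∈ M, u ^ t = 1 → ∃ i : ℤ, (u : H ⧸ X) = (a : H ⧸ X) ^ i := fun u hu c => by
    have e : (u : H ⧸ X) = (π u : H) := (QuotientGroup.eq_iff_div_mem).2 (div_eq_mul_inv u _ ▸ p3 u)
    by_cases c1 : (π u : H) = 1
    · exact ⟨0, by rw [e, c1]; simp⟩
    have o : orderOf (π u : H) = t := orderOf_eq_prime (by rw [← coe_pow, ← map_pow, c, map_one, coe_one]) c1
    have cm : (π u : H) * a = a * π u := commutatorElement_eq_one_iff_mul_comm.1 (dj _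
      (cle J (commutator_mem_commutator (π u).2 ha.2))
      (d.cc _ (d.DC (d.MD (pm u hu).1)) _ (d.DC (d.MD ha.1))))
    obtain ⟨i, hi⟩ := (pq a ha _ (pm u hu) (a1 ▸ ht) (o ▸ ht)
      (by rw [cm, mul_inv_cancel_right]; exact mem_zpowers a)).2 (a1.trans o.symm)
    exact ⟨i, by rw [e, ← hi, QuotientGroup.mk_zpow]⟩
  obtain ⟨g, hg⟩ := h.ex_g
  obtain ⟨i, hi⟩ := key (φ g a) (d.iM g a ha.1) (by rw [← map_pow, a2, map_one])
  obtain ⟨j, hj⟩ := key (x * a * x⁻¹) (Normal.conj_mem ‹_› a ha.1 x) (by rw [conj_pow, a2]; simp)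
  have e1 := congrArg (qt hX.inv g) hj
  rw [map_zpow, qt_mk, qt_mk, hi, ← zpow_mul, mul_comm, zpow_mul, ← hj, map_mul, map_mul, map_inv] at e1
  simp only [QuotientGroup.mk_mul, QuotientGroup.mk_inv, conj_zpow, ← hi] at e1
  have y1 : x⁻¹ * φ g x ∈ C := by_contra fun c => by
    have := d.fp _ c _ (d.iM g a ha.1) ((commutator_mem_iff_commute X _ _).2 (by
      change _ * _ = _ * _
      rw [QuotientGroup.mk_mul, QuotientGroup.mk_inv, mul_assoc, mul_inv_eq_iff_eq_mul.1 e1]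
      group))
    rw [dj a ha.2 (hX.inv.iff.1 this), orderOf_one] at a1
    exact ht.ne_one a1.symm
  exact h.frob g hg x hx (d.CK (by simpa using Normal.conj_mem ‹C.Normal› _ y1 x))

end Hyp

end CfsgLib.NDiv
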