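import Cfsg.Agent.Lib.NDiv.Basic
import Cfsg.Agent.Lib.RelDeg.Graph
import Cfsg.Agent.Lib.FullRam.Basic

/-! No divisibility among the nonlinear character degrees: the operator hypothesis. -/

set_option autoImplicit false

namespace CfsgLib.NDiv

open Cfsg CfsgLib.Char CfsgLib.CharDeep CfsgLib.ChDeg CfsgLib.RelDeg CfsgLib.Palfy Subgroup MulAction
open scoped commutatorElement Pointwise

variable {G H : Type*} [Group G] [Group H] {φ : G →* MulAut H} {I : Subgroup G} {K X Y : Subgroup H}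
  {p q r : ℕ}

/-- the hypothesis of the induction -/
structure Hyp (φ : G →* MulAut H) (I : Subgroup G) (K : Subgroup H) (p q : ℕ) : Prop where
  pp : p.Prime
  pq : q.Prime
  comm : _root_.commutator G ≤ I
  inn : ∀ g ∈ I, ∃ n, ∀ x, φ g x = n * x * n⁻¹
  inn' : ∀ n, ∃ g ∈ I, ∀ x, φ g x = n * x * n⁻¹
  DK : _root_.commutator H ≤ K
  pow : ∀ x, x ^ q ∈ K
  ne : K ≠ ⊤
  frob : ∀ g ∉ I, ∀ x ∉ K, φ g x * x⁻¹ ∉ K
  dvd : p ∣ I.index
  inv : ∀ ψ, IsIrrCharacter H ψ → charDegree ψ ≠ 1 → ∀ g x, ψ (φ g x) = ψ x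
  qd : ∀ ψ, IsIrrCharacter H ψ → charDegree ψ ≠ 1 → q ∣ charDegree ψ ∧ ¬ p ∣ charDegree ψ
  nd : ND H

/-- invariant subgroups -/
def Inv (φ : G →* MulAut H) (Y : Subgroup H) : Prop := ∀ g, ∀ y ∈ Y, φ g y ∈ Y

/-- at most one nonlinear degree -/
def Concl (H : Type*) [Group H] : Prop :=
  ∃ m, ∀ χ, IsIrrCharacter H χ → charDegree χ = 1 ∨ charDegree χ = m

/-- minimal invariant subgroups -/
structure Mn (φ : G →* MulAut H) (X : Subgroup H) (r : ℕ) : Prop where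
  inv : Inv φ X
  ne : X ≠ ⊥
  min : ∀ Y, Inv φ Y → Y ≤ X → Y = ⊥ ∨ Y = X
  ab : ∀ a ∈ X, ∀ b ∈ X, a * b = b * a
  pr : r.Prime
  ex : ∀ a ∈ X, a ^ r = 1

theorem phi_inv (g : G) (y : H) : φ g (φ g⁻¹ y) = y := by simp

theorem Inv.iff (h : Inv φ Y) {g : G} {y : H} : φ g y ∈ Y ↔ y ∈ Y :=
  ⟨fun k => by simpa using h g⁻¹ _ k, h g y⟩

theorem Inv.inf (h : Inv φ X) (h' : Inv φ Y) : Inv φ (X ⊓ Y) := fun g y hy => ⟨h g y hy.1, h' g y hy.2⟩

theorem Inv.comm (h : Inv φ X) (h' : Inv φ Y) : Inv φ ⁅X, Y⁆ := fun g =>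
  show ⁅X, Y⁆ ≤ comap (φ g).toMonoidHom ⁅X, Y⁆ from commutator_le.2 fun a ha b hb => by
    rw [mem_comap, map_commutatorElement]
    exact commutator_mem_commutator (h g a ha) (h' g b hb)

theorem inv_comm : Inv φ (_root_.commutator H) := Inv.comm (fun _ _ _ => mem_top _) fun _ _ _ => mem_top _

theorem Inv.cent (h : Inv φ X) : Inv φ (centralizer (X : Set H)) := fun g y hy =>
  mem_centralizer_iff.2 fun x hx => by
    rw [← phi_inv (φ := φ) g x, ← map_mul, ← map_mul, mem_centralizer_iff.1 hy _ (h _ x hx)]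

theorem Inv.map_eq (h : Inv φ X) (g : G) : X.map (φ g : H →* H) = X := by
  ext x
  exact ⟨fun ⟨y, hy, e⟩ => e ▸ h g y hy, fun hx => ⟨φ g⁻¹ x, h _ x hx, phi_inv g x⟩⟩

/-- the action on a quotient -/
def qt (h : Inv φ X) [X.Normal] : G →* MulAut (H ⧸ X) :=
  MonoidHom.mk' (fun g => QuotientGroup.congr X X (φ g) (h.map_eq g)) fun a b => by
    ext x
    obtain ⟨x, rfl⟩ := QuotientGroup.mk_surjective x
    change ((φ (a * b) x : H) : H ⧸ X) = (φ a (φ b x) : H)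
    rw [map_mul, MulAut.mul_apply]

theorem qt_mk (h : Inv φ X) [X.Normal] (g : G) (x : H) : qt h g (x : H ⧸ X) = (φ g x : H) := rfl

theorem mk_mem_map [X.Normal] (hXY : X ≤ Y) {x : H} :
    (x : H ⧸ X) ∈ Y.map (QuotientGroup.mk' X) ↔ x ∈ Y := by
  change x ∈ comap (QuotientGroup.mk' X) (Y.map (QuotientGroup.mk' X)) ↔ _
  rw [comap_map_eq, QuotientGroup.ker_mk', sup_eq_left.2 hXY]

theorem exists_mn [Finite H] [Group.IsSolvable H] {M : Subgroup H} (hM : Inv φ M) (h1 : M ≠ ⊥) :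
    ∃ X r, X ≤ M ∧ Mn φ X r := by
  obtain ⟨X, ⟨x1, x2, x3⟩, hm⟩ := wellFounded_lt.has_min {Y | Inv φ Y ∧ Y ≠ ⊥ ∧ Y ≤ M} ⟨M, hM, h1, le_rfl⟩
  have min : ∀ Y, Inv φ Y → Y ≤ X → Y = ⊥ ∨ Y = X := fun Y hY le =>
    or_iff_not_imp_left.2 fun n => le.eq_of_not_lt (hm Y ⟨hY, n, le.trans x3⟩)
  have ab : ∀ a ∈ X, ∀ b ∈ X, a * b = b * a := fun a ha b hb => by
    have := (min _ (x1.comm x1) (comm_lt x2).le).resolve_right (comm_lt x2).ne
    exact commutatorElement_eq_one_iff_mul_comm.1 (mem_bot.1 (this ▸ commutator_mem_commutator ha hb))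
  obtain ⟨r, hr, hd⟩ := Nat.exists_prime_and_dvd (mt card_eq_one.1 x2)
  have := Fact.mk hr
  obtain ⟨a, ha⟩ := exists_prime_orderOf_dvd_card' r hd
  let Y : Subgroup H :=
    { carrier := {a | a ∈ X ∧ a ^ r = 1}
      one_mem' := ⟨one_mem _, one_pow _⟩
      mul_mem' := fun {a b} ha hb => ⟨mul_mem ha.1 hb.1, by
        rw [Commute.mul_pow (ab a ha.1 b hb.1), ha.2, hb.2, one_mul]⟩
      inv_mem' := fun {a} ha => ⟨inv_mem ha.1, by rw [inv_pow, ha.2, inv_one]⟩ }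
  have hY := (min Y (fun g y hy => ⟨x1 g y hy.1, by rw [← map_pow, hy.2, map_one]⟩) fun y hy => hy.1).resolve_left
    fun e => by
      have : (a : H) ∈ Y := ⟨a.2, by rw [← ha, ← coe_pow, pow_orderOf_eq_one, coe_one]⟩
      rw [e, mem_bot, OneMemClass.coe_eq_one, ← orderOf_eq_one_iff, ha] at this
      exact hr.ne_one this
  exact ⟨X, r, x3, x1, x2, min, ab, hr, fun a ha => (hY.ge ha).2⟩

theorem Mn.pg (hX : Mn φ X r) : IsPGroup r X := fun a => ⟨1, Subtype.ext (by simpa using hX.ex a a.2)⟩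

namespace Hyp

variable (h : Hyp φ I K p q)
include h

theorem normal (hY : Inv φ Y) : Y.Normal := ⟨fun y hy n => by
  obtain ⟨g, -, e⟩ := h.inn' n
  exact e y ▸ hY g y hy⟩

theorem ex_g : ∃ g, g ∉ I := by
  by_contra! c
  exact h.pp.not_dvd_one (index_eq_one.2 (eq_top_iff.2 fun g _ => c g) ▸ h.dvd)

theorem ex_x : ∃ x, x ∉ K := by
  by_contra! c
  exact h.ne (eq_top_iff.2 fun g _ => c g)

variable [Finite H]

theorem quot (hX : Inv φ X) [X.Normal] (hD : X ≤ _root_.commutator H) :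
    Hyp (qt hX) I (K.map (QuotientGroup.mk' X)) p q := by
  have hK := hD.trans h.DK
  refine ⟨h.pp, h.pq, h.comm, fun g hg => ?_, fun n => ?_, ?_, fun x => ?_, fun e => ?_, fun g hg x hx => ?_, h.dvd,
    fun ψ hψ h1 g x => ?_, fun ψ hψ h1 => h.qd _ (isIrr_infl X hψ) h1,
    fun ψ ψ' hψ hψ' => h.nd _ _ (isIrr_infl X hψ) (isIrr_infl X hψ')⟩
  · obtain ⟨n, e⟩ := h.inn g hg
    refine ⟨n, fun x => ?_⟩
    obtain ⟨x, rfl⟩ := QuotientGroup.mk_surjective x
    rw [qt_mk, e]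
    rfl
  · obtain ⟨n, rfl⟩ := QuotientGroup.mk_surjective n
    obtain ⟨g, hg, e⟩ := h.inn' n
    refine ⟨g, hg, fun x => ?_⟩
    obtain ⟨x, rfl⟩ := QuotientGroup.mk_surjective x
    rw [qt_mk, e]
    rfl
  · rw [← map_commutator_of_surjective (QuotientGroup.mk'_surjective X)]
    exact map_mono h.DK
  · obtain ⟨x, rfl⟩ := QuotientGroup.mk_surjective x
    exact ⟨_, h.pow x, rfl⟩
  · obtain ⟨x, hx⟩ := h.ex_x
    exact hx ((mk_mem_map hK).1 (e ▸ mem_top _))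
  · obtain ⟨x, rfl⟩ := QuotientGroup.mk_surjective x
    exact fun k => h.frob g hg x (fun c => hx ((mk_mem_map hK).2 c)) ((mk_mem_map hK).1 k)
  · obtain ⟨x, rfl⟩ := QuotientGroup.mk_surjective x
    exact h.inv _ (isIrr_infl X hψ) h1 g x

theorem cam {g : G} {y : H} (hy : φ g y * y⁻¹ ∉ _root_.commutator H) {d : H} (hd : d ∈ _root_.commutator H) :
    IsConj y (d * y) := by
  refine isConj_mul_of_forall_eq_zero _ (fun ψ hψ h1 => ?_) hd
  rw [← deg_eq_one_iff_commutator_le hψ] at h1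
  obtain ⟨χ, hχ, c1, c2⟩ := exists_irr_le_cker_not_mem _ hy
  have hc := isCharacter_of_isIrr hχ
  obtain ⟨μ, rfl⟩ := exists_unitsHom_of_one_eq_one hc ((deg_eq_one_iff hc).1 ((deg_eq_one_iff_commutator_le hχ).2 c1))
  have k := h.inv _ (isIrr_linear_mul μ hψ) (by rwa [deg_congr (ψ := ψ) (by simp)]) g y
  rw [h.inv ψ hψ h1] at k
  refine (mul_eq_mul_right_iff.1 k).resolve_left fun e => c2 ((mem_cker hc).2 ?_)
  rw [map_mul, map_inv, Units.val_inj.1 e, mul_inv_cancel, map_one]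

theorem fus {g : G} {y : H} (hy : φ g y * y⁻¹ ∈ _root_.commutator H) : ∃ n, φ g y = n * y * n⁻¹ := by
  have := isConj_of_forall_zero_or_eq (g := y) (h := φ g y) fun χ hχ => Or.inr (by
    by_cases h1 : charDegree χ = 1
    · rw [← char_mul_of_mem_cker (isCharacter_of_isIrr hχ) ((deg_eq_one_iff_commutator_le hχ).1 h1 hy) y,
        inv_mul_cancel_right]
    · exact h.inv χ hχ h1 g y)
  obtain ⟨n, e⟩ := isConj_iff.1 this
  exact ⟨n, e.symm⟩

theorem fus' (g : G) {y : H} (hy : y ∈ _root_.commutator H) : ∃ n, φ g y = n * y * n⁻¹ :=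
  h.fus (mul_mem (inv_comm g y hy) (inv_mem hy))

theorem fpf1 {x u : H} (hx : x ∉ K) (hu : u ∈ _root_.commutator H) (hq : (orderOf u).Coprime q)
    (c : x * u = u * x) : u = 1 := by
  obtain ⟨j, k, h1, h2⟩ := part h.pq x
  obtain ⟨g, hg⟩ := h.ex_g
  have := h.cam (g := g) (y := x ^ k)
    (fun m => h.frob g hg _ (fun m' => hx (mem_of_cop h1 m' (h.pow x))) (h.DK m)) hu
  exact eq_one_of_cop (hq.pow_right j) (pow_orderOf_eq_one u)
    (pow_eq_one_of_conj this (Commute.pow_right c.symm k) (by rw [← pow_mul, mul_comm, h2]))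

theorem stab (hX : Mn φ X r) (hD : X ≤ _root_.commutator H) (hc : _root_.commutator H ≤ centralizer (X : Set H))
    {t : H} (ht : t ∉ centralizer (X : Set H)) : ∀ y ∈ X, t * y = y * t → y = 1 := fun y hy e => by
  have := h.normal hX.inv
  refine (hX.min (X ⊓ centralizer {t}) (fun g v hv => ⟨hX.inv g v hv.1, ?_⟩) inf_le_left).elim
    (fun k => mem_bot.1 (k ▸ ⟨hy, mem_centralizer_singleton_iff.2 e.symm⟩))
    fun k => absurd (mem_centralizer_iff.2 fun v hv => mem_centralizer_singleton_iff.1 (k.ge hv).2) ht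
  · obtain ⟨n, e⟩ := h.fus' g (hD hv.1)
    have e1 := mem_centralizer_singleton_iff.1 hv.2
    have e2 := mem_centralizer_iff.1 (hc (commutator_mem_commutator (mem_top t⁻¹) (mem_top n⁻¹))) v hv.1
    refine mem_centralizer_singleton_iff.2 ?_
    rw [e]
    calc _ = n * (v * t * ⁅t⁻¹, n⁻¹⁆) * n⁻¹ := by simp only [commutatorElement_def]; group
      _ = _ := by rw [e1, mul_assoc t, e2]; simp only [commutatorElement_def]; group

theorem exists_L : ∃ L : Subgroup H, (∀ y, y ∈ L ↔ (orderOf y).Coprime q) ∧ ∃ k, L.index = q ^ k := by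
  obtain ⟨L, _, h1, h2, -⟩ := exists_normal_pi_complement {q} (by simpa using h.pq)
    (by simpa using fun χ hχ h1 => (h.qd χ hχ h1).1)
  have e := Nat.eq_prime_pow_of_unique_prime_dvd (p := q) (index_ne_zero_of_finite (H := L))
    fun hd hm => by simpa using h2 _ hd hm
  refine ⟨L, fun y => ⟨fun hy => ?_, fun hy => ?_⟩, _, e⟩
  · exact (h.pq.coprime_iff_not_dvd.2 fun c => h1 q (by simp) (c.trans (orderOf_dvd_natCard L hy))).symm
  · exact mem_of_cop (hy.pow_right _) (by rw [pow_orderOf_eq_one]; exact one_mem _) (e ▸ L.pow_index_mem y)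

end Hyp

end CfsgLib.NDiv
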